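import Cfsg.Agent.H791.AS.LTwoI
import Cfsg.Agent.S0252
import Cfsg.Agent.S0253
import Cfsg.Agent.S0254
import Cfsg.Agent.S0255

/-!
# `AS2` for `PSL₂(q)` (helper791, TEAM GEN, S3943)

The prime fields, and all `q ≥ 4`.
-/

set_option autoImplicit false
set_option linter.unusedSectionVars false

namespace Cfsg.Agent.H791.AS

open Matrix Subgroup
open Cfsg.Agent.H465.SU Cfsg.Agent.H465.Red Cfsg.Agent.H965.AS
open Cfsg.Agent.ClassicalGeometry.AutPSL.Root
open Cfsg.Agent.ClassicalGeometry.AutPSL.Auto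
open Cfsg.Agent.ClassicalGeometry.AutPSL.Main

universe u

section prime

variable {F : Type u} [Field F] [Fintype F]

/-- the transvection with centre `(1, c)` -/
def tv (c : F) : Matrix.SpecialLinearGroup (Fin 2) F :=
  ⟨!![1 - c, 1; -c ^ 2, 1 + c], by rw [Matrix.det_fin_two_of]; ring⟩

theorem coe_tv_pow (c : F) (n : ℕ) :
    ((tv c ^ n : Matrix.SpecialLinearGroup (Fin 2) F) : Matrix (Fin 2) (Fin 2) F) =
      !![1 - n * c, n; -n * c ^ 2, 1 + n * c] := by
  induction n with
  | zero =>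
    rw [pow_zero, Matrix.SpecialLinearGroup.coe_one]
    ext i j
    fin_cases i <;> fin_cases j <;> simp
  | succ n ih =>
    rw [pow_succ, Matrix.SpecialLinearGroup.coe_mul, ih]
    change _ * (!![1 - c, 1; -c ^ 2, 1 + c] : Matrix (Fin 2) (Fin 2) F) = _
    ext i j
    fin_cases i <;> fin_cases j <;> simp [Matrix.mul_apply, Fin.sum_univ_two] <;> ring

theorem tv_mulVec (c : F) (n : ℕ) :
    ((tv c ^ n : Matrix.SpecialLinearGroup (Fin 2) F) : Matrix (Fin 2) (Fin 2) F) *ᵥ ![1, c] = ![1, c] := by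
  rw [coe_tv_pow]
  ext i
  fin_cases i <;> simp [Matrix.mulVec, dotProduct, Fin.sum_univ_two]
  ring

theorem tv_eigen {c k : F} {u : Fin 2 → F} (h : (tv c : Matrix (Fin 2) (Fin 2) F) *ᵥ u = k • u) :
    u 1 = c * u 0 := by
  have h0 := congrFun h 0
  have h1 := congrFun h 1
  change (!![1 - c, 1; -c ^ 2, 1 + c] : Matrix (Fin 2) (Fin 2) F).mulVec u 0 = k * u 0 at h0
  change (!![1 - c, 1; -c ^ 2, 1 + c] : Matrix (Fin 2) (Fin 2) F).mulVec u 1 = k * u 1 at h1
  simp [Matrix.mulVec, dotProduct, Fin.sum_univ_two] at h0 h1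
  -- `N u = (k - 1) u`, `N² = 0`
  have e0 : u 1 - c * u 0 = (k - 1) * u 0 := by linear_combination h0
  have e1 : c * (u 1 - c * u 0) = (k - 1) * u 1 := by linear_combination h1
  by_cases hk : k - 1 = 0
  · rw [hk, zero_mul] at e0
    linear_combination e0
  · have e2 : (k - 1) * (u 1 - c * u 0) = 0 := by linear_combination c * e0 - e1
    have e3 := (mul_eq_zero.1 e2).resolve_left hk
    linear_combination e3

variable {r : ℕ} [Fact r.Prime] [CharP F r]

theorem tv_order (c : F) (r : ℕ) [Fact r.Prime] [CharP F r] : orderOf (tv c) = r := by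
  refine orderOf_eq_prime ?_ ?_
  · apply Subtype.ext
    change ((tv c ^ r : Matrix.SpecialLinearGroup (Fin 2) F) : Matrix (Fin 2) (Fin 2) F) = 1
    rw [coe_tv_pow, CharP.cast_eq_zero]
    ext i j
    fin_cases i <;> fin_cases j <;> simp
  · intro h
    have h1 := congrFun (congrFun (congrArg Subtype.val h) 0) 1
    change (1 : F) = 0 at h1
    exact one_ne_zero h1

/-- elements of order `r` of `PSL₂(r)` -/
theorem su_tv (hF : Fintype.card F = r) (hr : 5 ≤ r) {y : Matrix.ProjectiveSpecialLinearGroup (Fin 2) F}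
    (hy : orderOf y = r) : SUel r y := by
  have hrp : r.Prime := Fact.out
  refine ⟨fun h => ?_, ⟨1, by rw [hy, pow_one]⟩, ?_⟩
  · rw [h, orderOf_one] at hy
    exact hrp.one_lt.ne hy
  intro M hM hyM
  obtain ⟨R, hR1, hRM, hRp, hRn⟩ := exists_normal_of_linear (F := F) (r := r)
    (SpecialLinearGroup.toLin' (n := Fin 2) (R := F)) SpecialLinearGroup.toLin'_injective hrp
    (by rw [Module.finrank_fintype_fun_eq_card, Fintype.card_fin]; omega) (by omega)
    (QuotientGroup.mk' (center (SpecialLinearGroup (Fin 2) F))) (QuotientGroup.mk'_surjective _)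
    (by rw [QuotientGroup.ker_mk']) (by
      rw [QuotientGroup.ker_mk']
      exact Cfsg.Agent.H465.LTwo.not_dvd_center hrp (by omega)) hy hM hyM
  -- the order of an `r`-subgroup
  have hcard : ∀ P : Subgroup (Matrix.ProjectiveSpecialLinearGroup (Fin 2) F), IsPGroup r P → Nat.card P ∣ r := by
    intro P hP
    obtain ⟨n, hn⟩ := IsPGroup.iff_card.1 hP
    have h1 : r ^ n ∣ Nat.card (Matrix.ProjectiveSpecialLinearGroup (Fin 2) F) := hn ▸ card_subgroup_dvd_card P
    have h2 : r ^ n ∣ Nat.card (Matrix.SpecialLinearGroup (Fin 2) F) := by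
      have h3 := card_eq_card_quotient_mul_card_subgroup (center (Matrix.SpecialLinearGroup (Fin 2) F))
      rw [h3]
      exact h1.mul_right _
    rw [ClassicalGeometry.PSL2Basic.card_SL2, hF] at h2
    have hco : Nat.Coprime (r ^ n) (r ^ 2 - 1) := by
      refine Nat.Coprime.pow_left _ ?_
      rw [hrp.coprime_iff_not_dvd]
      intro h4
      have h5 : r ∣ r ^ 2 := dvd_pow_self r two_ne_zero
      have h6 : r ∣ r ^ 2 - (r ^ 2 - 1) := Nat.dvd_sub h5 h4
      have h7 : 1 ≤ r ^ 2 := Nat.one_le_pow _ _ hrp.pos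
      rw [show r ^ 2 - (r ^ 2 - 1) = 1 by omega] at h6
      exact hrp.one_lt.ne' (Nat.dvd_one.1 h6)
    rw [hn]
    exact hco.dvd_of_dvd_mul_right h2
  have hRc : Nat.card R = r := by
    rcases (Nat.dvd_prime hrp).1 (hcard R hRp) with h | h
    · exact absurd (card_eq_one.1 h) hR1
    · exact h
  have key : ∀ A : Subgroup (Matrix.ProjectiveSpecialLinearGroup (Fin 2) F), A ≤ M → Nat.card A = r → A = R := by
    intro A hAM hAc
    have hAp : IsPGroup r A := IsPGroup.of_card (n := 1) (by rw [hAc, pow_one])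
    have hsup : IsPGroup r (A ⊔ R : Subgroup _) := by
      refine IsPGroup.to_sup_of_normal_right' hAp hRp ?_
      intro a ha
      rw [mem_normalizer_iff]
      intro g
      constructor
      · exact hRn a (hAM ha) g
      · intro hg
        have h1 := hRn a⁻¹ (inv_mem (hAM ha)) _ hg
        have h2 : a⁻¹ * (a * g * a⁻¹) * a⁻¹⁻¹ = g := by group
        rwa [h2] at h1
    have h1 : Nat.card (A ⊔ R : Subgroup _) ≤ r := Nat.le_of_dvd hrp.pos (hcard _ hsup)
    have h2 : A = A ⊔ R := eq_of_le_of_card_ge le_sup_left (by rw [hAc]; exact h1)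
    have h3 : R = A ⊔ R := eq_of_le_of_card_ge le_sup_right (by rw [hRc]; exact h1)
    exact h2.trans h3.symm
  intro A B hA hB hAc hBc
  rw [key A hA hAc, key B hB hBc]

omit [Fact r.Prime] [CharP F r] in
theorem pr_order' (r : ℕ) (hr : r.Prime) (hr2 : r ≠ 2) {z : Matrix.SpecialLinearGroup (Fin 2) F} (hz : orderOf z = r) :
    orderOf (pr z) = r := pr_order hr hr2 hz

/-- field automorphisms of a prime field -/
theorem aut_eq_one (hF : Fintype.card F = r) (σ : F ≃+* F) : σ = 1 := by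
  have hb : Function.Bijective (ZMod.castHom (dvd_refl r) F) := by
    rw [Fintype.bijective_iff_injective_and_card]
    exact ⟨ZMod.castHom_injective F, by rw [ZMod.card, hF]⟩
  apply RingEquiv.ext
  intro x
  obtain ⟨n, rfl⟩ := hb.2 x
  have h2 : ((σ : F →+* F).comp (ZMod.castHom (dvd_refl r) F)) = (ZMod.castHom (dvd_refl r) F) := Subsingleton.elim _ _
  exact RingHom.congr_fun h2 n

/-- the polynomial of the fixed centres -/
noncomputable def fp (B : Matrix (Fin 2) (Fin 2) F) : Polynomial F :=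
  Polynomial.C (-(B 0 1)) * Polynomial.X ^ 2 + Polynomial.C (B 1 1 - B 0 0) * Polynomial.X + Polynomial.C (B 1 0)

theorem fp_ne_zero {B : Matrix (Fin 2) (Fin 2) F} (hB : ∀ c : F, B ≠ c • 1) : fp B ≠ 0 := by
  intro h0
  have c2 := congrArg (fun Q : Polynomial F => Q.coeff 2) h0
  have c1 := congrArg (fun Q : Polynomial F => Q.coeff 1) h0
  have c0 := congrArg (fun Q : Polynomial F => Q.coeff 0) h0
  simp [fp, Polynomial.coeff_X, Polynomial.coeff_C] at c2 c1 c0
  apply hB (B 0 0)
  ext i j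
  fin_cases i <;> fin_cases j <;> simp [c2, c0]
  linear_combination c1

theorem natDegree_fp (B : Matrix (Fin 2) (Fin 2) F) : (fp B).natDegree ≤ 2 := Polynomial.natDegree_quadratic_le

theorem eval_fp (B : Matrix (Fin 2) (Fin 2) F) (c : F) :
    (fp B).eval c = -(B 0 1) * c ^ 2 + (B 1 1 - B 0 0) * c + B 1 0 := by
  simp [fp]

/-- solvable => the centre is fixed -/
theorem eval_of_solvable (hcen : center (Matrix.ProjectiveSpecialLinearGroup (Fin 2) F) = ⊥)
    (hF : Fintype.card F = r) (hr : 5 ≤ r) {B : GL (Fin 2) F} {c : F}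
    (h : Group.IsSolvable (closure ({lift (cj B), MulAut.conj (pr (tv c))} :
      Set (MulAut (Matrix.ProjectiveSpecialLinearGroup (Fin 2) F))))) : (fp B.1).eval c = 0 := by
  have hrp : r.Prime := Fact.out
  have hy : orderOf (pr (tv c)) = r := pr_order hrp (by omega) (tv_order c r)
  have hsu := su_tv hF hr hy
  have h1 := mem_bad_of_solvable hcen hsu (A := zpowers (pr (tv c))) le_rfl (by rw [Nat.card_zpowers, hy])
    (x := lift (cj B)) (g := 1) (by rw [one_mul, inv_one, mul_one]; exact h)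
  rw [mem_bad, map_one, inv_one, one_mul, mul_one] at h1
  have h2 : lift (cj B) (pr (tv c)) ∈ (zpowers (pr (tv c))).map (lift (cj B)).toMonoidHom := ⟨_, mem_zpowers _, rfl⟩
  rw [h1, ← mem_powers_iff_mem_zpowers] at h2
  obtain ⟨n, hn⟩ := h2
  have hn' : pr (tv c ^ n) = pr (cj B (tv c)) := by rw [map_pow, ← lift_pr]; exact hn
  obtain ⟨k, hk⟩ := exists_smul_of_pr_eq hn'
  set w : Fin 2 → F := ![1, c] with hw
  have hBB : B.1 * ((B⁻¹ : GL (Fin 2) F) : Matrix (Fin 2) (Fin 2) F) = 1 := by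
    rw [← Units.val_mul, mul_inv_cancel, Units.val_one]
  have hBB' : ((B⁻¹ : GL (Fin 2) F) : Matrix (Fin 2) (Fin 2) F) * B.1 = 1 := by
    rw [← Units.val_mul, inv_mul_cancel, Units.val_one]
  set u : Fin 2 → F := ((B⁻¹ : GL (Fin 2) F) : Matrix (Fin 2) (Fin 2) F) *ᵥ w with hu
  have hBu : B.1 *ᵥ u = w := by rw [hu, mulVec_mulVec, hBB, one_mulVec]
  have hu0 : u ≠ 0 := by
    intro h0
    rw [h0, mulVec_zero] at hBu
    have := congrFun hBu 0
    simp [hw] at this
  have h3 : (tv c : Matrix (Fin 2) (Fin 2) F) *ᵥ u = k • u := by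
    have h4 : ((cj B (tv c) : Matrix.SpecialLinearGroup (Fin 2) F) : Matrix (Fin 2) (Fin 2) F) *ᵥ w = k • w := by
      rw [hk, smul_mulVec, hw, tv_mulVec]
    rw [coe_cj, ← mulVec_mulVec, ← mulVec_mulVec, ← hu] at h4
    have h5 := congrArg (fun x => ((B⁻¹ : GL (Fin 2) F) : Matrix (Fin 2) (Fin 2) F) *ᵥ x) h4
    simp only [mulVec_mulVec, mulVec_smul] at h5
    rw [← Matrix.mul_assoc, hBB', Matrix.one_mul, ← hu] at h5
    exact h5
  have h4 := tv_eigen h3
  -- `B (1, c) ∥ (1, c)`
  have h5 : u = u 0 • w := by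
    ext i
    fin_cases i
    · simp [hw]
    · simp only [hw]
      change u 1 = u 0 * c
      rw [h4]; ring
  have hu00 : u 0 ≠ 0 := by
    intro h0
    rw [h0, zero_smul] at h5
    exact hu0 h5
  have h6 : u 0 • (B.1 *ᵥ w) = w := by rw [← mulVec_smul, ← h5, hBu]
  have e0 := congrFun h6 0
  have e1 := congrFun h6 1
  simp [hw] at e0 e1
  rw [eval_fp]
  apply mul_left_cancel₀ hu00
  rw [mul_zero]
  linear_combination e1 - c * e0

/-- **Case II.** -/
theorem as2_II (hcen : center (Matrix.ProjectiveSpecialLinearGroup (Fin 2) F) = ⊥)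
    (hF : Fintype.card F = r) (hr : 5 ≤ r) : AS2 (Matrix.ProjectiveSpecialLinearGroup (Fin 2) F) := by
  intro α β hα hβ
  have key : ∀ α : MulAut (Matrix.ProjectiveSpecialLinearGroup (Fin 2) F), α ≠ 1 →
      ∃ B : GL (Fin 2) F, α = lift (cj B) ∧ ∀ c : F, B.1 ≠ c • 1 := by
    intro α hα
    obtain ⟨B, σ, rfl⟩ := surj_two r α
    refine ⟨B, by rw [aut_eq_one hF σ, map_one fld, mul_one], fun c hc => hα ?_⟩
    rw [aut_eq_one hF σ, cj_eq_one_of_scalar (r := c) (by rw [hc, scalar_apply, ← smul_one_eq_diagonal]), map_one fld,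
      mul_one, map_one]
  obtain ⟨A, hA, hAn⟩ := key α hα
  obtain ⟨B, hB, hBn⟩ := key β hβ
  have hQ : fp A.1 * fp B.1 ≠ 0 := mul_ne_zero (fp_ne_zero hAn) (fp_ne_zero hBn)
  have hd : (fp A.1 * fp B.1).natDegree ≤ 4 := by
    refine (Polynomial.natDegree_mul_le).trans ?_
    have h1 := natDegree_fp A.1
    have h2 := natDegree_fp B.1
    omega
  obtain ⟨c, hc⟩ : ∃ c : F, (fp A.1 * fp B.1).eval c ≠ 0 := by
    by_contra hcon
    push Not at hcon
    apply hQ
    refine Polynomial.eq_zero_of_natDegree_lt_card_of_eval_eq_zero _ (f := (id : F → F)) Function.injective_id hcon ?_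
    omega
  rw [Polynomial.eval_mul] at hc
  refine ⟨pr (tv c), fun h => hc ?_, fun h => hc ?_⟩
  · rw [hA] at h
    rw [eval_of_solvable hcen hF hr h, zero_mul]
  · rw [hB] at h
    rw [eval_of_solvable hcen hF hr h, mul_zero]

end prime

/-! ### arithmetic -/

theorem quot_odd {m : ℕ} (hm : 2 ≤ m) (j : ℕ) :
    ∃ Q : ℕ, Odd Q ∧ (2 * m + 1) ^ (2 * j + 1) + 1 = (2 * m + 2) * Q ∧ 1 ≤ Q ∧ (1 ≤ j → 21 ≤ Q) := by
  induction j with
  | zero => exact ⟨1, odd_one, by ring, le_rfl, fun h => by omega⟩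
  | succ j ih =>
    obtain ⟨Q, hQ, hQe, hQ1, -⟩ := ih
    obtain ⟨k, hk⟩ := hQ
    have h1 : 2 * m ≤ (2 * m + 1) ^ 2 * Q := by nlinarith
    refine ⟨(2 * m + 1) ^ 2 * Q - 2 * m, ?_, ?_, ?_, fun _ => ?_⟩
    · refine ⟨(2 * m + 1) ^ 2 * k + (2 * m ^ 2 + 2 * m) - m, ?_⟩
      have h2 : m ≤ (2 * m + 1) ^ 2 * k + (2 * m ^ 2 + 2 * m) := by nlinarith
      rw [hk]
      zify [h2, (show 2 * m ≤ (2 * m + 1) ^ 2 * (2 * k + 1) by rw [← hk]; exact h1)]
      ring
    · zify [h1]
      zify at hQe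
      have h3 : (2 * (m : ℤ) + 1) ^ (2 * (j + 1) + 1) = (2 * m + 1) ^ 2 * (2 * m + 1) ^ (2 * j + 1) := by
        rw [← pow_add]; congr 1; omega
      rw [h3]
      linear_combination (2 * (m : ℤ) + 1) ^ 2 * hQe
    · have h4 : 2 * m + 1 ≤ (2 * m + 1) ^ 2 * Q := by nlinarith
      omega
    · have h4 : 2 * m + 21 ≤ (2 * m + 1) ^ 2 * Q := by nlinarith
      omega

theorem eq_one_of_pow {r e k b : ℕ} (hr : r.Prime) (hr5 : 5 ≤ r) (he : e ≠ 0) (hb : b = 1 ∨ b = 3)
    (h : r ^ e + 1 = b * 2 ^ k) : e = 1 := by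
  obtain ⟨m, hm⟩ : ∃ m, r = 2 * m + 1 := by
    have := hr.odd_of_ne_two (by omega)
    exact this
  have hm2 : 2 ≤ m := by omega
  rcases Nat.even_or_odd e with ⟨j, hj⟩ | ⟨j, hj⟩
  · exfalso
    have hj1 : 1 ≤ j := by omega
    have h1 : r ^ e % 8 = 1 := by
      have h2 : r ^ 2 % 8 = 1 := by
        rw [hm]
        have : (2 * m + 1) ^ 2 = 4 * (m * (m + 1)) + 1 := by ring
        rw [this]
        obtain ⟨c, hc⟩ := (Nat.even_mul_succ_self m)
        rw [hc]
        omega
      rw [hj, ← two_mul, pow_mul, Nat.pow_mod, h2, one_pow]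
      rfl
    have h25 : 25 ≤ r ^ e := by
      calc 25 = 5 ^ 2 := by norm_num
        _ ≤ r ^ 2 := Nat.pow_le_pow_left hr5 2
        _ ≤ r ^ e := Nat.pow_le_pow_right hr.pos (by omega)
    have h8 : 8 ∣ 2 ^ k := by
      have hk3 : 3 ≤ k := by
        by_contra hk
        have h10 : 2 ^ k ≤ 2 ^ 2 := Nat.pow_le_pow_right two_pos (by omega)
        rcases hb with rfl | rfl <;> omega
      exact pow_dvd_pow 2 hk3
    obtain ⟨c, hc⟩ := h8
    rw [hc] at h
    rcases hb with rfl | rfl <;> omega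
  · by_contra hne
    have hj1 : 1 ≤ j := by omega
    obtain ⟨Q, hQ, hQe, -, hQ21⟩ := quot_odd hm2 j
    have hQ21 := hQ21 hj1
    rw [← hm, ← hj, h] at hQe
    have hdvd : Q ∣ b * 2 ^ k := ⟨2 * m + 2, by rw [hQe]; ring⟩
    have hco : Nat.Coprime Q (2 ^ k) := by
      refine Nat.Coprime.pow_right _ ?_
      rw [Nat.coprime_two_right]
      exact hQ
    have h2 := hco.dvd_of_dvd_mul_right hdvd
    rcases hb with rfl | rfl
    · have := Nat.le_of_dvd (by norm_num) h2
      omega
    · have := Nat.le_of_dvd (by norm_num) h2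
      omega

/-! ### the theorem -/

/-- **`AS2` for `PSL₂(q)`, `q ≥ 4`.** -/
theorem row {K : Type*} [Group K] [Finite K] [IsSimpleGroup K] (hK : ¬ IsMulCommutative K) {F : Type u} [Field F]
    [Fintype F] (e : K ≃* Matrix.ProjectiveSpecialLinearGroup (Fin 2) F) (hq : 4 ≤ Fintype.card F) : AS2 K := by
  -- trivial centre
  have hcen : ∀ {F : Type u} [Field F] (e : K ≃* Matrix.ProjectiveSpecialLinearGroup (Fin 2) F),
      center (Matrix.ProjectiveSpecialLinearGroup (Fin 2) F) = ⊥ := by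
    intro F _ e
    have hs : IsSimpleGroup (Matrix.ProjectiveSpecialLinearGroup (Fin 2) F) := e.symm.isSimpleGroup
    rcases (inferInstance : (center (Matrix.ProjectiveSpecialLinearGroup (Fin 2) F)).Normal).eq_bot_or_eq_top with h1 | h1
    · exact h1
    · exfalso
      apply hK
      refine ⟨⟨fun a b => ?_⟩⟩
      apply e.injective
      rw [map_mul, map_mul]
      have : e b ∈ center (Matrix.ProjectiveSpecialLinearGroup (Fin 2) F) := by rw [h1]; trivial
      exact mem_center_iff.1 this (e a)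
  obtain ⟨r, hchar⟩ := CharP.exists F
  have hr : r.Prime := (CharP.char_is_prime_or_zero F r).resolve_right (CharP.char_ne_zero_of_finite F r)
  have hrf : Fact r.Prime := ⟨hr⟩
  obtain ⟨n, -, hn⟩ := FiniteField.card F r
  by_cases h4 : Fintype.card F = 4
  · -- `PSL₂(4) ≅ A₅ ≅ PSL₂(5)`
    have : Fact (Nat.Prime 5) := ⟨by norm_num⟩
    obtain ⟨e4⟩ := Cfsg.Agent.S0252.result h4
    have hc5 : Fintype.card (ULift.{u} (ZMod 5)) = 5 := by rw [Fintype.card_ulift, ZMod.card]
    obtain ⟨e5⟩ := Cfsg.Agent.S0253.result hc5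
    have e' := (e.trans e4).trans e5.symm
    have hc : CharP (ULift.{u} (ZMod 5)) 5 := inferInstance
    exact AS2.congr e'.symm (as2_II (r := 5) (hcen e') hc5 le_rfl)
  · by_cases hbad : ∃ k b, (b = 1 ∨ b = 3) ∧ Fintype.card F + 1 = b * 2 ^ k
    · obtain ⟨k, b, hb, hk⟩ := hbad
      -- the characteristic is at least five
      have hr5 : 5 ≤ r := by
        by_contra hr5
        have h2 := hr.two_le
        have h4' : r ≠ 4 := by
          rintro rfl
          norm_num at hr
        have hr23 : r = 2 ∨ r = 3 := by omega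
        rcases hr23 with rfl | rfl
        · have h6 : 2 ∣ Fintype.card F := by rw [hn]; exact dvd_pow_self 2 n.ne_zero
          have hk0 : k = 0 := by
            by_contra hk0
            have h7 : 2 ∣ b * 2 ^ k := (dvd_pow_self 2 hk0).mul_left b
            omega
          rw [hk0, pow_zero, mul_one] at hk
          omega
        · have h6 : 3 ∣ Fintype.card F := by rw [hn]; exact dvd_pow_self 3 n.ne_zero
          rcases hb with rfl | rfl
          · have h8 : ∀ m : ℕ, 3 ^ m % 8 = 1 ∨ 3 ^ m % 8 = 3 := by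
              intro m
              induction m with
              | zero => left; rfl
              | succ m ih => rw [pow_succ]; omega
            have h9 := h8 n
            rw [← hn] at h9
            have hk3 : 3 ≤ k := by
              by_contra hk3
              have h10 : 2 ^ k ≤ 2 ^ 2 := Nat.pow_le_pow_right two_pos (by omega)
              omega
            have h11 : 8 ∣ 2 ^ k := pow_dvd_pow 2 hk3
            omega
          · omega
      have hn1 : (n : ℕ) = 1 := eq_one_of_pow hr hr5 n.ne_zero hb (by rw [← hn]; exact hk)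
      rw [hn1, pow_one] at hn
      exact AS2.congr e.symm (as2_II (r := r) (hcen e) hn hr5)
    · push Not at hbad
      obtain ⟨p, a, hp, hp2, ha, h5, hd, hnd⟩ := Cfsg.Agent.H465.LTwo.exists_pp (N := Fintype.card F + 1)
        (fun k => by rw [← one_mul (2 ^ k)]; exact hbad k 1 (Or.inl rfl)) (fun k => hbad k 3 (Or.inr rfl)) (by omega)
      have h7 : 7 ≤ Fintype.card F := by
        have h5' : Fintype.card F ≠ 5 := fun h => hbad 1 3 (Or.inr rfl) (by rw [h]; norm_num)
        have h6' : Fintype.card F ≠ 6 := by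
          intro h
          rw [hn] at h
          have h2 : 2 ∣ r ^ (n : ℕ) := by rw [h]; decide
          have h3 : 3 ∣ r ^ (n : ℕ) := by rw [h]; decide
          have h2' := (Nat.prime_dvd_prime_iff_eq Nat.prime_two hr).1 (Nat.prime_two.dvd_of_dvd_pow h2)
          have h3' := (Nat.prime_dvd_prime_iff_eq Nat.prime_three hr).1 (Nat.prime_three.dvd_of_dvd_pow h3)
          omega
        omega
      exact AS2.congr e.symm (as2_I r (hcen e) hp hp2 ha h5 hd hnd h7)

/-- `A₅` -/
theorem row_alt5 {K : Type*} [Group K] [Finite K] [IsSimpleGroup K] (hK : ¬ IsMulCommutative K)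
    (e : K ≃* alternatingGroup (Fin 5)) : AS2 K := by
  have : Fact (Nat.Prime 5) := ⟨by norm_num⟩
  obtain ⟨e5⟩ := Cfsg.Agent.S0253.result (F := ZMod 5) (ZMod.card 5)
  exact row hK (e.trans e5.symm) (by rw [ZMod.card]; norm_num)

/-- `A₆ ≅ PSL₂(9)` -/
theorem row_alt6 {K : Type*} [Group K] [Finite K] [IsSimpleGroup K] (hK : ¬ IsMulCommutative K)
    (e : K ≃* alternatingGroup (Fin 6)) : AS2 K := by
  have : Fact (Nat.Prime 3) := ⟨by norm_num⟩
  have hc : Nat.card (GaloisField 3 2) = 9 := by rw [GaloisField.card 3 2 two_ne_zero]; norm_num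
  have : Fintype (GaloisField 3 2) := Fintype.ofFinite _
  rw [Nat.card_eq_fintype_card] at hc
  obtain ⟨e9⟩ := Cfsg.Agent.S0254.result (F := GaloisField 3 2) hc
  exact row hK (e.trans e9.symm) (by rw [hc]; norm_num)

/-- `PSL₃(2) ≅ PSL₂(7)` -/
theorem row_psl32 {K : Type*} [Group K] [Finite K] [IsSimpleGroup K] (hK : ¬ IsMulCommutative K) {F : Type*} [Field F]
    [Fintype F] (hF : Fintype.card F = 2) (e : K ≃* Matrix.ProjectiveSpecialLinearGroup (Fin 3) F) : AS2 K := by
  have : Fact (Nat.Prime 7) := ⟨by norm_num⟩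
  obtain ⟨e7⟩ := Cfsg.Agent.S0255.result (F := ZMod 7) (ZMod.card 7) hF
  exact row hK (e.trans e7.symm) (by rw [ZMod.card]; norm_num)

end Cfsg.Agent.H791.AS
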