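import Cfsg.Agent.H791.AS.Semi
import Cfsg.Agent.H791.Gen.Psl2
import Cfsg.Agent.H965.ASCrit
import Cfsg.Agent.H465.LTwo

/-!
# `AS2` for `PSL₂(q)` (helper791, TEAM GEN, S3943)

The case where `q + 1` is divisible by an odd prime power `p ^ a ≥ 5`, `q ≥ 7`.
-/

set_option autoImplicit false
set_option linter.unusedSectionVars false

namespace Cfsg.Agent.H791.AS

open Matrix Subgroup
open Cfsg.Agent.H465.SU Cfsg.Agent.H465.Red Cfsg.Agent.H965.AS
open Cfsg.Agent.ClassicalGeometry.AutPSL.Root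
open Cfsg.Agent.ClassicalGeometry.AutPSL.Auto
open Cfsg.Agent.ClassicalGeometry.AutPSL.Main
open Cfsg.Agent.H791.Gen (fld_cj)

universe u

section order

variable {F : Type u} [Field F] [Fintype F] (r : ℕ) [Fact r.Prime] [CharP F r] {p a : ℕ}

include r

theorem irr_of_order (hp : p.Prime) (ha : 1 ≤ a) (hpr : p ≠ r) (hp1 : ¬ p ∣ Fintype.card F - 1)
    {y : Matrix.SpecialLinearGroup (Fin 2) F} (hy : orderOf y = p ^ a) :
    Irr (y : Matrix (Fin 2) (Fin 2) F).trace := by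
  intro x hx
  have hdet : ((y : Matrix (Fin 2) (Fin 2) F) - x • 1).det = 0 := by
    have h2 := y.2
    rw [Matrix.det_fin_two] at h2 ⊢
    rw [trace_two'] at hx
    simp
    linear_combination hx + h2
  obtain ⟨w, hw0, hw⟩ := Matrix.exists_mulVec_eq_zero_iff.2 hdet
  have hyw : (y : Matrix (Fin 2) (Fin 2) F) *ᵥ w = x • w := by
    rw [sub_mulVec, smul_mulVec, one_mulVec, sub_eq_zero] at hw
    exact hw
  rcases Cfsg.Agent.H465.LTwo.irreducible hp ha hpr hp1 hy (Submodule.span F {w}) (by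
    intro v hv
    obtain ⟨c, rfl⟩ := Submodule.mem_span_singleton.1 hv
    rw [map_smul]
    refine Submodule.smul_mem _ _ ?_
    rw [SpecialLinearGroup.toLin'_apply, Matrix.toLin'_apply, hyw]
    exact Submodule.smul_mem _ _ (Submodule.mem_span_singleton_self w)) with h | h
  · exact hw0 (Submodule.span_singleton_eq_bot.1 h)
  · have h1 := finrank_span_singleton (K := F) hw0
    rw [h, finrank_top, Module.finrank_fintype_fun_eq_card, Fintype.card_fin] at h1
    omega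

theorem basics (hp : p.Prime) (hp2 : p ≠ 2) (ha : 1 ≤ a) (hpq : p ^ a ∣ Fintype.card F + 1) :
    p ≠ r ∧ ¬ p ∣ Fintype.card F - 1 ∧ ¬ p ∣ Fintype.card F := by
  have hr : r.Prime := Fact.out
  have hp1 : p ∣ Fintype.card F + 1 := (dvd_pow_self p (by omega)).trans hpq
  obtain ⟨n, -, hn⟩ := FiniteField.card F r
  have hpr : p ≠ r := by
    rintro rfl
    have h1 : p ∣ Fintype.card F := by rw [hn]; exact dvd_pow_self p n.ne_zero
    have h2 : p ∣ 1 := (Nat.dvd_add_right h1).1 hp1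
    exact hp.one_lt.ne' (Nat.dvd_one.1 h2)
  have hq1 : 1 < Fintype.card F := Fintype.one_lt_card
  refine ⟨hpr, ?_, ?_⟩
  · intro h
    have h2 : p ∣ (Fintype.card F + 1) - (Fintype.card F - 1) := Nat.dvd_sub hp1 h
    have h3 : (Fintype.card F + 1) - (Fintype.card F - 1) = 2 := by omega
    rw [h3] at h2
    exact hp2 ((Nat.prime_dvd_prime_iff_eq hp Nat.prime_two).1 h2)
  · rw [hn]
    intro h
    exact hpr ((Nat.prime_dvd_prime_iff_eq hp hr).1 (hp.dvd_of_dvd_pow h))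

theorem exists_order (hp : p.Prime) (hp2 : p ≠ 2) (ha : 1 ≤ a)
    (hpq : p ^ a ∣ Fintype.card F + 1) (hpq' : ¬ p ^ (a + 1) ∣ Fintype.card F + 1) :
    ∃ y : Matrix.SpecialLinearGroup (Fin 2) F, orderOf y = p ^ a := by
  have hpf : Fact p.Prime := ⟨hp⟩
  have hr : r.Prime := Fact.out
  obtain ⟨hpr, hp3, hpn⟩ := basics (F := F) r hp hp2 ha hpq
  have hcyc : ∀ P : Sylow p (SpecialLinearGroup (Fin 2) F), IsCyclic P := fun P => S0262.result r p hp2 hpr P
  have hcard : Nat.card (SpecialLinearGroup (Fin 2) F) = p ^ a * ((Fintype.card F + 1) / p ^ a *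
      (Fintype.card F * (Fintype.card F - 1))) := by
    rw [ClassicalGeometry.PSL2Basic.card_SL2]
    have h1 : Fintype.card F ^ 2 - 1 = (Fintype.card F + 1) * (Fintype.card F - 1) := by
      have := Nat.sq_sub_sq (Fintype.card F) 1
      rwa [one_pow] at this
    rw [h1, ← mul_assoc (p ^ a), Nat.mul_div_cancel' hpq]
    ring
  have hnd : ¬ p ∣ (Fintype.card F + 1) / p ^ a * (Fintype.card F * (Fintype.card F - 1)) := by
    rw [hp.dvd_mul, hp.dvd_mul]
    rintro (h | h | h)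
    · apply hpq'
      rw [pow_succ]
      exact Nat.mul_dvd_of_dvd_div hpq h
    · exact hpn h
    · exact hp3 h
  obtain ⟨P⟩ : Nonempty (Sylow p (SpecialLinearGroup (Fin 2) F)) := inferInstance
  have hPc : Nat.card P = p ^ a := by
    rw [P.card_eq_multiplicity, hcard, Nat.factorization_mul (pow_ne_zero _ hp.ne_zero) (by
      intro h0
      rw [h0] at hnd
      exact hnd (dvd_zero p)), Finsupp.add_apply, Nat.factorization_eq_zero_of_not_dvd hnd, hp.factorization_pow,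
      Finsupp.single_eq_same, add_zero]
  obtain ⟨g, hg⟩ := (hcyc P).exists_generator
  exact ⟨g, by rw [orderOf_coe, orderOf_eq_card_of_forall_mem_zpowers hg, hPc]⟩

theorem su_pr (hp : p.Prime) (hp2 : p ≠ 2) (ha : 1 ≤ a) (h5 : 5 ≤ p ^ a) (hpq : p ^ a ∣ Fintype.card F + 1)
    {g : Matrix.SpecialLinearGroup (Fin 2) F} (hgo : orderOf g = p ^ a) : SUel p (pr g) := by
  have hpf : Fact p.Prime := ⟨hp⟩
  have hr : r.Prime := Fact.out
  obtain ⟨hpr, hp3, hpn⟩ := basics (F := F) r hp hp2 ha hpq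
  have hcyc : ∀ P : Sylow p (SpecialLinearGroup (Fin 2) F), IsCyclic P := fun P => S0262.result r p hp2 hpr P
  have hfin : Module.finrank F (Fin 2 → F) = 2 := by rw [Module.finrank_fintype_fun_eq_card, Fintype.card_fin]
  have hSU : SUel p (g : SpecialLinearGroup (Fin 2) F) := by
    refine SUel.of_irreducible (SpecialLinearGroup.toLin' (n := Fin 2) (R := F)) SpecialLinearGroup.toLin'_injective hp
      hp2 ha hgo hcyc (Or.inl ?_) (Cfsg.Agent.H465.LTwo.irreducible hp ha hpr hp3 hgo)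
    rw [hfin]
    obtain ⟨b, rfl⟩ : ∃ b, a = b + 1 := ⟨a - 1, by omega⟩
    rw [Nat.add_sub_cancel, pow_succ]
    have hp3' : 3 ≤ p := by
      have := hp.two_le
      omega
    rcases Nat.eq_zero_or_pos b with h0 | h0
    · rw [h0, pow_zero, one_mul]
      rw [h0, zero_add, pow_one] at h5
      omega
    · have h6 : p ^ 1 ≤ p ^ b := Nat.pow_le_pow_right hp.pos h0
      rw [pow_one] at h6
      nlinarith
  refine SUel.map (QuotientGroup.mk' (center (SpecialLinearGroup (Fin 2) F))) (QuotientGroup.mk'_surjective _) ?_ hp ?_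
    hSU
  · rw [QuotientGroup.ker_mk']
    exact Group.isSolvable_of_comm fun a b => Subtype.ext (mem_center_iff.1 b.2 a)
  · rw [QuotientGroup.ker_mk']
    exact Cfsg.Agent.H465.LTwo.not_dvd_center hp hp2

omit r [Fact r.Prime] [CharP F r] in
/-- the element of order `p` is not central -/
theorem socle_order (hp : p.Prime) (ha : 1 ≤ a) {s : Matrix.SpecialLinearGroup (Fin 2) F} (hs : orderOf s = p ^ a) :
    orderOf (s ^ p ^ (a - 1)) = p := by
  rw [orderOf_pow, hs, Nat.gcd_eq_right (pow_dvd_pow p (by omega)), Nat.pow_div (by omega) hp.pos]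
  have : a - (a - 1) = 1 := by omega
  rw [this, pow_one]

omit r [Fact r.Prime] [CharP F r] in
theorem pr_order (hp : p.Prime) (hp2 : p ≠ 2) {z : Matrix.SpecialLinearGroup (Fin 2) F} (hz : orderOf z = p) :
    orderOf (pr z) = p := by
  have h1 : (pr z) ^ p = 1 := by rw [← map_pow, ← hz, pow_orderOf_eq_one, map_one]
  rcases (Nat.dvd_prime hp).1 (orderOf_dvd_of_pow_eq_one h1) with h | h
  · exfalso
    rw [orderOf_eq_one_iff, pr_eq_one_iff] at h
    apply Cfsg.Agent.H465.LTwo.not_dvd_center (F := F) hp hp2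
    have h2 := orderOf_dvd_natCard (⟨z, h⟩ : center (Matrix.SpecialLinearGroup (Fin 2) F))
    rwa [orderOf_mk, hz] at h2
  · exact h

/-- the automorphism normalises `⟨z⟩` -/
theorem exists_zpow (hcen : center (Matrix.ProjectiveSpecialLinearGroup (Fin 2) F) = ⊥)
    (hp : p.Prime) (hp2 : p ≠ 2) (ha : 1 ≤ a) (h5 : 5 ≤ p ^ a) (hpq : p ^ a ∣ Fintype.card F + 1)
    {s : Matrix.SpecialLinearGroup (Fin 2) F} (hs : orderOf s = p ^ a)
    {α : MulAut (Matrix.ProjectiveSpecialLinearGroup (Fin 2) F)}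
    (h : Group.IsSolvable (closure ({α, MulAut.conj (pr s)} : Set (MulAut (Matrix.ProjectiveSpecialLinearGroup (Fin 2) F))))) :
    ∃ i : ℤ, α (pr (s ^ p ^ (a - 1))) = (pr (s ^ p ^ (a - 1))) ^ i := by
  have hsu := su_pr r hp hp2 ha h5 hpq hs
  have hA : zpowers (pr (s ^ p ^ (a - 1))) ≤ zpowers (pr s) := by
    rw [zpowers_le, map_pow]
    exact npow_mem_zpowers _ _
  have hAc : Nat.card (zpowers (pr (s ^ p ^ (a - 1)))) = p := by
    rw [Nat.card_zpowers]
    exact pr_order hp hp2 (socle_order hp ha hs)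
  have h1 := mem_bad_of_solvable hcen hsu hA hAc (x := α) (g := 1) (by rw [one_mul, inv_one, mul_one]; exact h)
  rw [mem_bad, map_one, inv_one, one_mul, mul_one] at h1
  have h2 : α (pr (s ^ p ^ (a - 1))) ∈ (zpowers (pr (s ^ p ^ (a - 1)))).map α.toMonoidHom :=
    ⟨_, mem_zpowers _, rfl⟩
  rw [h1] at h2
  obtain ⟨i, hi⟩ := mem_zpowers_iff.1 h2
  exact ⟨i, hi.symm⟩

/-- the automorphism of `SL₂` -/
abbrev im (B : GL (Fin 2) F) (σ : F ≃+* F) : MulAut (Matrix.SpecialLinearGroup (Fin 2) F) := cj B * fld σ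

omit r [Fact r.Prime] [CharP F r] in
/-- trace of the image -/
theorem trace_img (B : GL (Fin 2) F) (σ : F ≃+* F) (s : Matrix.SpecialLinearGroup (Fin 2) F) :
    (im B σ s : Matrix (Fin 2) (Fin 2) F).trace = σ (s : Matrix (Fin 2) (Fin 2) F).trace := by
  rw [MulAut.mul_apply, coe_cj, Matrix.trace_mul_comm, ← Matrix.mul_assoc, ← Units.val_mul, inv_mul_cancel, Units.val_one,
    Matrix.one_mul, trace_two', trace_two', map_add]
  rfl

omit r [Fact r.Prime] [CharP F r] in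
theorem coe_img (B : GL (Fin 2) F) (σ : F ≃+* F) (s : Matrix.SpecialLinearGroup (Fin 2) F) :
    (B : Matrix (Fin 2) (Fin 2) F) * (s : Matrix (Fin 2) (Fin 2) F).map σ =
      (im B σ s : Matrix (Fin 2) (Fin 2) F) * B := by
  rw [MulAut.mul_apply, coe_cj, Matrix.mul_assoc, ← Units.val_mul, inv_mul_cancel, Units.val_one, Matrix.mul_one]
  rfl

/-- **the linear form of badness** -/
theorem exists_lin (hcen : center (Matrix.ProjectiveSpecialLinearGroup (Fin 2) F) = ⊥)
    (hp : p.Prime) (hp2 : p ≠ 2) (ha : 1 ≤ a) (h5 : 5 ≤ p ^ a) (hpq : p ^ a ∣ Fintype.card F + 1)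
    {s : Matrix.SpecialLinearGroup (Fin 2) F} (hs : orderOf s = p ^ a) {t : F} (hst : s ∈ U t) (B : GL (Fin 2) F)
    (σ : F ≃+* F)
    (h : Group.IsSolvable (closure ({lift (im B σ), MulAut.conj (pr s)} :
      Set (MulAut (Matrix.ProjectiveSpecialLinearGroup (Fin 2) F))))) :
    ∃ γ δ : F, (B : Matrix (Fin 2) (Fin 2) F) * (s : Matrix (Fin 2) (Fin 2) F).map σ =
        (γ • (1 : Matrix (Fin 2) (Fin 2) F) + δ • s.1) * B ∧ δ ≠ 0 ∧
      2 * γ + δ * t = σ t ∧ γ ^ 2 + γ * δ * t + δ ^ 2 = 1 := by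
  obtain ⟨hpr, hp3, hpn⟩ := basics (F := F) r hp hp2 ha hpq
  obtain ⟨i, hi⟩ := exists_zpow r hcen hp hp2 ha h5 hpq hs h
  set z := s ^ p ^ (a - 1) with hz
  have hzo : orderOf z = p := socle_order hp ha hs
  set e := im B σ with he
  rw [lift_pr, ← map_zpow] at hi
  obtain ⟨c, hc⟩ := exists_smul_of_pr_eq hi.symm
  -- `e z` commutes with `s`
  have hzs : (z ^ i) * s = s * (z ^ i) := by
    have h1 : Commute z s := by rw [hz]; exact (Commute.refl s).pow_left _
    exact h1.zpow_left i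
  have hzs' : (s : Matrix (Fin 2) (Fin 2) F) * (e z).1 = (e z).1 * s.1 := by
    have h1 : (z ^ i).1 * s.1 = s.1 * (z ^ i).1 := congrArg Subtype.val hzs
    rw [hc, mul_smul_comm, smul_mul_assoc, h1]
  have hes : (e s).1 * (e z).1 = (e z).1 * (e s).1 := by
    have h1 : e s * e z = e z * e s := by
      rw [← map_mul, ← map_mul]
      congr 1
      rw [hz]
      exact ((Commute.refl s).pow_right _)
    exact congrArg Subtype.val h1
  have hez : ∀ c : F, (e z).1 ≠ c • 1 := by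
    have h1 : orderOf (e z) = p ^ 1 := by rw [MulEquiv.orderOf_eq, hzo, pow_one]
    exact not_scalar (irr_of_order r hp le_rfl hpr hp3 h1) rfl (e z).2
  have hcomm : (e s).1 * s.1 = s.1 * (e s).1 := comm_of hez hes hzs'
  have hsirr : Irr t := by
    have h1 := irr_of_order r hp ha hpr hp3 hs
    rwa [show (s : Matrix (Fin 2) (Fin 2) F).trace = t from hst] at h1
  have hsn := not_scalar hsirr hst s.2
  obtain ⟨γ, δ, hγ⟩ := exists_of_comm hsn hcomm
  refine ⟨γ, δ, ?_, ?_, ?_, ?_⟩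
  · rw [coe_img, ← he, hγ]
  · rintro rfl
    rw [zero_smul, add_zero] at hγ
    have h1 : orderOf (e s) = p ^ a := by rw [MulEquiv.orderOf_eq, hs]
    exact not_scalar (irr_of_order r hp ha hpr hp3 h1) rfl (e s).2 γ hγ
  · rw [← trace_lin hst, ← hγ, he, trace_img]
    congr 1
  · rw [← det_lin hst s.2, ← hγ]
    exact (e s).2

/-! ### counting -/

/-- the bad set -/
def BadS (t : F) (α : MulAut (Matrix.ProjectiveSpecialLinearGroup (Fin 2) F)) :
    Set (Matrix.SpecialLinearGroup (Fin 2) F) :=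
  {s ∈ U t | Group.IsSolvable (closure ({α, MulAut.conj (pr s)} :
    Set (MulAut (Matrix.ProjectiveSpecialLinearGroup (Fin 2) F))))}

omit r [Fact r.Prime] [CharP F r] in
theorem im_pow (B : GL (Fin 2) F) (σ : F ≃+* F) (n : ℕ) : ∃ C : GL (Fin 2) F, im B σ ^ n = im C (σ ^ n) := by
  induction n with
  | zero => exact ⟨1, by simp [im]⟩
  | succ n ih =>
    obtain ⟨C, hC⟩ := ih
    refine ⟨C * Matrix.GeneralLinearGroup.map ((σ ^ n : F ≃+* F) : F →+* F) B, ?_⟩
    rw [pow_succ, hC]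
    unfold im
    rw [map_mul cj, pow_succ, map_mul fld]
    calc cj C * fld (σ ^ n) * (cj B * fld σ) = cj C * (fld (σ ^ n) * cj B) * fld σ := by simp only [mul_assoc]
      _ = _ := by rw [fld_cj]; simp only [mul_assoc]

omit [Fact r.Prime] [CharP F r] r in
theorem sigma_pow {B : GL (Fin 2) F} {σ : F ≃+* F} {n : ℕ} (h : (lift (im B σ)) ^ n = 1) : σ ^ n = 1 := by
  obtain ⟨C, hC⟩ := im_pow B σ n
  rw [← map_pow, hC] at h
  have h1 : lift (cj C * fld (σ ^ n)) = lift (fld (1 : F ≃+* F)) := by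
    rw [map_one fld, map_one lift]
    exact h
  exact (injective_aux h1).2

/-- the case `σ = 1` -/
theorem card_bad_one (hcen : center (Matrix.ProjectiveSpecialLinearGroup (Fin 2) F) = ⊥)
    (hp : p.Prime) (hp2 : p ≠ 2) (ha : 1 ≤ a) (h5 : 5 ≤ p ^ a) (hpq : p ^ a ∣ Fintype.card F + 1)
    {t : F} (hi : Irr t) (ht : ∀ s ∈ U t, orderOf s = p ^ a) {B : GL (Fin 2) F}
    (hB : ∀ c : F, (B : Matrix (Fin 2) (Fin 2) F) ≠ c • 1) :
    (BadS t (lift (im B 1))).ncard ≤ 2 + 2 * Nat.card F := by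
  have hsub : BadS t (lift (im B 1)) ⊆ {s ∈ U t | B.1 * s.1 = s.1 * B.1} ∪ {s ∈ U t | B.1 * s.1 = (t • 1 - s.1) * B.1} := by
    rintro s ⟨hs, hs'⟩
    obtain ⟨γ, δ, h1, -, h3, h4⟩ := exists_lin r hcen hp hp2 ha h5 hpq (ht s hs) hs B 1 hs'
    have hmap : (s : Matrix (Fin 2) (Fin 2) F).map (1 : F ≃+* F) = s.1 := by
      ext i j; rfl
    rw [hmap] at h1
    rcases two_roots hi h3 h4 (γ' := 0) (δ' := 1) (by simp) (by simp) with ⟨rfl, rfl⟩ | ⟨rfl, rfl⟩
    · left
      refine ⟨hs, ?_⟩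
      rw [h1, zero_smul, zero_add, one_smul]
    · right
      refine ⟨hs, ?_⟩
      rw [h1, sub_zero, neg_smul, one_smul, ← sub_eq_add_neg]
      rfl
  refine (Set.ncard_le_ncard hsub (Set.toFinite _)).trans ((Set.ncard_union_le _ _).trans ?_)
  refine Nat.add_le_add (card_comm_le hi hB) ?_
  rcases Set.eq_empty_or_nonempty {s ∈ U t | B.1 * s.1 = (t • 1 - s.1) * B.1} with h | ⟨s0, hs0, hs0'⟩
  · rw [h, Set.ncard_empty]; exact Nat.zero_le _
  · obtain ⟨h1, -⟩ := trace_of_inv hi hs0 hs0'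
    refine (Set.ncard_le_ncard ?_ (Set.toFinite _)).trans (card_inv_le hi hB h1)
    rintro s ⟨hs, hs'⟩
    exact ⟨hs, (trace_of_inv hi hs hs').2⟩

/-- the case `|σ| ≥ 3` -/
theorem card_bad_three (hcen : center (Matrix.ProjectiveSpecialLinearGroup (Fin 2) F) = ⊥)
    (hp : p.Prime) (hp2 : p ≠ 2) (ha : 1 ≤ a) (h5 : 5 ≤ p ^ a) (hpq : p ^ a ∣ Fintype.card F + 1)
    {t : F} (hi : Irr t) (ht : ∀ s ∈ U t, orderOf s = p ^ a) {B : GL (Fin 2) F} {σ : F ≃+* F}
    (hσ : 3 ≤ orderOf σ) :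
    (BadS t (lift (im B σ))).ncard ≤ 2 + 2 * Nat.card F := by
  rcases Set.eq_empty_or_nonempty (BadS t (lift (im B σ))) with h | ⟨s0, hs0, hs0'⟩
  · rw [h, Set.ncard_empty]; exact Nat.zero_le _
  obtain ⟨γ0, δ0, h1, h2, h3, h4⟩ := exists_lin r hcen hp hp2 ha h5 hpq (ht s0 hs0) hs0 B σ hs0'
  have hsub : BadS t (lift (im B σ)) ⊆
      {s ∈ U t | B.1 * s.1.map σ = (γ0 • (1 : Matrix (Fin 2) (Fin 2) F) + δ0 • s.1) * B.1} ∪
      {s ∈ U t | B.1 * s.1.map σ = ((σ t - γ0) • (1 : Matrix (Fin 2) (Fin 2) F) + (-δ0) • s.1) * B.1} := by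
    rintro s ⟨hs, hs'⟩
    obtain ⟨γ, δ, k1, k2, k3, k4⟩ := exists_lin r hcen hp hp2 ha h5 hpq (ht s hs) hs B σ hs'
    rcases two_roots hi k3 k4 h3 h4 with ⟨rfl, rfl⟩ | ⟨rfl, rfl⟩
    · exact Or.inl ⟨hs, k1⟩
    · exact Or.inr ⟨hs, k1⟩
  have hBB : B.1 * ((B⁻¹ : GL (Fin 2) F) : Matrix (Fin 2) (Fin 2) F) = 1 := by
    rw [← Units.val_mul, mul_inv_cancel, Units.val_one]
  have hq0 : Nat.card {c : F // σ c = c} ^ 3 ≤ Nat.card F := by
    rw [card_eq_pow σ]
    refine Nat.pow_le_pow_right ?_ hσ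
    have : Nonempty {c : F // σ c = c} := ⟨⟨0, map_zero σ⟩⟩
    exact Nat.card_pos
  refine (Set.ncard_le_ncard hsub (Set.toFinite _)).trans ((Set.ncard_union_le _ _).trans ?_)
  have e1 := (card_semi_le hi σ hBB (γ := γ0) h2).trans hq0
  have e2 := (card_semi_le hi σ hBB (γ := σ t - γ0) (neg_ne_zero.2 h2)).trans hq0
  omega

omit [Fact r.Prime] [CharP F r] r in
theorem trace_inv' (z : Matrix.SpecialLinearGroup (Fin 2) F) :
    ((z⁻¹ : Matrix.SpecialLinearGroup (Fin 2) F) : Matrix (Fin 2) (Fin 2) F).trace = (z : Matrix (Fin 2) (Fin 2) F).trace := by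
  rw [Matrix.SpecialLinearGroup.coe_inv, Matrix.adjugate_fin_two, trace_two', trace_two']
  simp [add_comm]

/-- the case `|σ| = 2` -/
theorem bad_two (hcen : center (Matrix.ProjectiveSpecialLinearGroup (Fin 2) F) = ⊥)
    (hp : p.Prime) (hp2 : p ≠ 2) (ha : 1 ≤ a) (h5 : 5 ≤ p ^ a) (hpq : p ^ a ∣ Fintype.card F + 1)
    {t : F} (ht : ∀ s ∈ U t, orderOf s = p ^ a) {B : GL (Fin 2) F} {σ : F ≃+* F}
    (hσ : orderOf σ = 2) (hα : lift (im B σ) ^ 2 = 1) : BadS t (lift (im B σ)) = ∅ := by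
  rw [Set.eq_empty_iff_forall_notMem]
  rintro s ⟨hs, hs'⟩
  obtain ⟨hpr, hp3, hpn⟩ := basics (F := F) r hp hp2 ha hpq
  have hpf : Fact p.Prime := ⟨hp⟩
  have hso := ht s hs
  obtain ⟨i, hi⟩ := exists_zpow r hcen hp hp2 ha h5 hpq hso hs'
  set z := s ^ p ^ (a - 1) with hz
  have hzo : orderOf z = p := socle_order hp ha hso
  have hpz : orderOf (pr z) = p := pr_order hp hp2 hzo
  set e := im B σ with he
  -- `i² = 1`
  have h1 : (pr z) ^ (i * i - 1) = 1 := by
    have h2 : lift e (lift e (pr z)) = pr z := by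
      have := DFunLike.congr_fun hα (pr z)
      rwa [pow_two] at this
    rw [hi, map_zpow, hi, ← _root_.zpow_mul] at h2
    rw [_root_.zpow_sub, h2, zpow_one, mul_inv_cancel]
  have h2 : (p : ℤ) ∣ (i - 1) * (i + 1) := by
    rw [← hpz, show (i - 1) * (i + 1) = i * i - 1 by ring]
    exact orderOf_dvd_iff_zpow_eq_one.2 h1
  obtain ⟨w, hw, hwt, hwo⟩ : ∃ w : Matrix.SpecialLinearGroup (Fin 2) F, lift e (pr z) = pr w ∧
      (w : Matrix (Fin 2) (Fin 2) F).trace = (z : Matrix (Fin 2) (Fin 2) F).trace ∧ w ^ p = 1 := by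
    have hzp : z ^ p = 1 := by rw [← hzo, pow_orderOf_eq_one]
    rcases (Nat.prime_iff_prime_int.1 hp).dvd_or_dvd h2 with h3 | h3
    · refine ⟨z, ?_, rfl, hzp⟩
      rw [← hpz] at h3
      have h4 := orderOf_dvd_iff_zpow_eq_one.1 h3
      rw [_root_.zpow_sub, zpow_one, mul_inv_eq_one] at h4
      rw [hi, h4]
    · refine ⟨z⁻¹, ?_, trace_inv' z, by rw [inv_pow, hzp, inv_one]⟩
      rw [← hpz] at h3
      have h4 := orderOf_dvd_iff_zpow_eq_one.1 h3
      rw [_root_.zpow_add, zpow_one, mul_eq_one_iff_eq_inv] at h4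
      rw [hi, h4, map_inv]
  rw [lift_pr] at hw
  obtain ⟨c, hc⟩ := exists_smul_of_pr_eq hw.symm
  have hc2 : c ^ 2 = 1 := by
    have h3 := congrArg Matrix.det hc
    rw [det_smul, Fintype.card_fin, w.2, (e z).2, mul_one] at h3
    exact h3.symm
  have hcp : c ^ p = 1 := by
    have h3 : (e z) ^ p = 1 := by rw [← map_pow, ← hzo, pow_orderOf_eq_one, map_one]
    have h4 : ((e z : Matrix.SpecialLinearGroup (Fin 2) F) : Matrix (Fin 2) (Fin 2) F) ^ p = 1 := by
      rw [← Matrix.SpecialLinearGroup.coe_pow, h3, Matrix.SpecialLinearGroup.coe_one]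
    rw [hc, smul_pow, ← Matrix.SpecialLinearGroup.coe_pow, hwo, Matrix.SpecialLinearGroup.coe_one] at h4
    have h5 := congrFun (congrFun h4 0) 0
    simpa using h5
  have hc1 : c = 1 := by
    obtain ⟨k, hk⟩ := hp.odd_of_ne_two hp2
    rw [hk, pow_succ, pow_mul, hc2, one_pow, one_mul] at hcp
    exact hcp
  have hτ : σ (z : Matrix (Fin 2) (Fin 2) F).trace = (z : Matrix (Fin 2) (Fin 2) F).trace := by
    rw [← trace_img B, ← he, hc, hc1, one_smul, hwt]
  set τ := (z : Matrix (Fin 2) (Fin 2) F).trace with hτdef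
  -- the companion matrix
  set K0 : Subfield F := RingHom.eqLocusField (σ : F →+* F) (RingHom.id F) with hK0
  have hτK : τ ∈ K0 := hτ
  have hirr : Irr τ := by
    have h3 : orderOf z = p ^ 1 := by rw [hzo, pow_one]
    exact irr_of_order r hp le_rfl hpr hp3 h3
  let C0 : Matrix.SpecialLinearGroup (Fin 2) K0 := ⟨!![0, -1; 1, (⟨τ, hτK⟩ : K0)], by
    rw [Matrix.det_fin_two_of]; simp⟩
  have hCo : orderOf z = orderOf (Matrix.SpecialLinearGroup.map K0.subtype C0) := by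
    refine order_eq hirr rfl ?_
    rw [trace_two']
    change (0 : F) + τ = τ
    rw [zero_add]
  have hinj : Function.Injective (Matrix.SpecialLinearGroup.map (n := Fin 2) K0.subtype) := by
    intro x y hxy
    apply Subtype.ext
    ext i j
    have h3 := congrFun (congrFun (congrArg Subtype.val hxy) i) j
    exact h3
  rw [orderOf_injective _ hinj, hzo] at hCo
  have hfin : Fintype K0 := Fintype.ofFinite _
  have h3 : p ∣ Nat.card (Matrix.SpecialLinearGroup (Fin 2) K0) := by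
    conv_lhs => rw [hCo]
    exact orderOf_dvd_natCard _
  rw [ClassicalGeometry.PSL2Basic.card_SL2] at h3
  have hq : Fintype.card F = Fintype.card K0 ^ 2 := by
    rw [← Nat.card_eq_fintype_card, ← Nat.card_eq_fintype_card, card_eq_pow σ, hσ]
    rfl
  rw [← hq] at h3
  rcases (hp.dvd_mul).1 h3 with h4 | h4
  · apply hpn
    rw [hq]
    exact h4.trans (dvd_pow_self _ (by norm_num))
  · exact hp3 h4

theorem card_bad (hcen : center (Matrix.ProjectiveSpecialLinearGroup (Fin 2) F) = ⊥)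
    (hp : p.Prime) (hp2 : p ≠ 2) (ha : 1 ≤ a) (h5 : 5 ≤ p ^ a) (hpq : p ^ a ∣ Fintype.card F + 1)
    {t : F} (hi : Irr t) (ht : ∀ s ∈ U t, orderOf s = p ^ a)
    {α : MulAut (Matrix.ProjectiveSpecialLinearGroup (Fin 2) F)} (hα : (orderOf α).Prime) :
    (BadS t α).ncard ≤ 2 + 2 * Nat.card F := by
  obtain ⟨B, σ, hBσ⟩ := surj_two r α
  have hBσ' : α = lift (im B σ) := hBσ
  subst hBσ'
  by_cases hσ : σ = 1
  · subst hσ
    refine card_bad_one r hcen hp hp2 ha h5 hpq hi ht ?_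
    intro c hc
    apply Nat.not_prime_one
    have h1 : im B (1 : F ≃+* F) = 1 := by
      unfold im
      rw [cj_eq_one_of_scalar (r := c) (by rw [hc, scalar_apply, ← smul_one_eq_diagonal]), map_one, mul_one]
    rw [h1, map_one, orderOf_one] at hα
    exact hα
  · have h1 : σ ^ orderOf (lift (im B σ)) = 1 := sigma_pow (pow_orderOf_eq_one _)
    have hf : Fact (orderOf (lift (im B σ))).Prime := ⟨hα⟩
    have h2 : orderOf σ = orderOf (lift (im B σ)) := orderOf_eq_prime h1 hσ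
    by_cases h3 : orderOf σ = 2
    · rw [bad_two r hcen hp hp2 ha h5 hpq ht h3 (orderOf_dvd_iff_pow_eq_one.1 (dvd_of_eq (h2.symm.trans h3))),
        Set.ncard_empty]
      exact Nat.zero_le _
    · have h4 := hα.two_le
      exact card_bad_three r hcen hp hp2 ha h5 hpq hi ht (by omega)

omit r [Fact r.Prime] [CharP F r] in
/-- a power of prime order -/
theorem exists_prime_pow {G : Type*} [Group G] [Finite G] {x : G} (hx : x ≠ 1) : ∃ k : ℕ, (orderOf (x ^ k)).Prime := by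
  obtain ⟨s, hs, hsx⟩ := Nat.exists_prime_and_dvd (n := orderOf x) (by rwa [ne_eq, orderOf_eq_one_iff])
  exact ⟨orderOf x / s, by rw [orderOf_pow_orderOf_div (orderOf_pos x).ne' hsx]; exact hs⟩

omit r [Fact r.Prime] [CharP F r] in
theorem solvable_pow {G : Type*} [Group G] {x y : G} (k : ℕ) (h : Group.IsSolvable (closure ({x, y} : Set G))) :
    Group.IsSolvable (closure ({x ^ k, y} : Set G)) := by
  have hle : closure ({x ^ k, y} : Set G) ≤ closure {x, y} := by
    rw [closure_le]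
    rintro _ (rfl | rfl)
    · exact pow_mem (subset_closure (by simp)) k
    · exact subset_closure (by simp)
  exact Group.isSolvable_of_isSolvable_injective (f := inclusion hle) (inclusion_injective hle)

/-- **Case I.** -/
theorem as2_I (hcen : center (Matrix.ProjectiveSpecialLinearGroup (Fin 2) F) = ⊥)
    (hp : p.Prime) (hp2 : p ≠ 2) (ha : 1 ≤ a) (h5 : 5 ≤ p ^ a) (hpq : p ^ a ∣ Fintype.card F + 1)
    (hpq' : ¬ p ^ (a + 1) ∣ Fintype.card F + 1) (hq : 7 ≤ Fintype.card F) :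
    AS2 (Matrix.ProjectiveSpecialLinearGroup (Fin 2) F) := by
  intro α β hα hβ
  have hfin : Finite (MulAut (Matrix.ProjectiveSpecialLinearGroup (Fin 2) F)) := inferInstance
  obtain ⟨k, hk⟩ := exists_prime_pow hα
  obtain ⟨l, hl⟩ := exists_prime_pow hβ
  obtain ⟨y, hy⟩ := exists_order (F := F) r hp hp2 ha hpq hpq'
  obtain ⟨hpr, hp3, hpn⟩ := basics (F := F) r hp hp2 ha hpq
  set t := (y : Matrix (Fin 2) (Fin 2) F).trace with ht
  have hi : Irr t := irr_of_order r hp ha hpr hp3 hy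
  have hto : ∀ s ∈ U t, orderOf s = p ^ a := by
    intro s hs
    rw [← hy]
    exact order_eq hi hs rfl
  have h1 := card_bad r hcen hp hp2 ha h5 hpq hi hto hk
  have h2 := card_bad r hcen hp hp2 ha h5 hpq hi hto hl
  have h3 := card_U hi
  obtain ⟨s, hs, hs'⟩ : ∃ s ∈ U t, s ∉ BadS t (α ^ k) ∪ BadS t (β ^ l) := by
    by_contra hcon
    push Not at hcon
    have h4 := Set.ncard_le_ncard (s := U t) (t := BadS t (α ^ k) ∪ BadS t (β ^ l)) hcon (Set.toFinite _)
    have h5 := Set.ncard_union_le (BadS t (α ^ k)) (BadS t (β ^ l))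
    rw [Nat.card_eq_fintype_card] at h1 h2 h3
    obtain ⟨m, hm⟩ : ∃ m, Fintype.card F = m + 7 := ⟨Fintype.card F - 7, by omega⟩
    rw [hm, show m + 7 - 1 = m + 6 by omega] at h3
    rw [hm] at h1 h2
    nlinarith
  rw [Set.mem_union, not_or] at hs'
  refine ⟨pr s, fun h => hs'.1 ⟨hs, solvable_pow k h⟩, fun h => hs'.2 ⟨hs, solvable_pow l h⟩⟩

end order

end Cfsg.Agent.H791.AS
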