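import Mathlib

/-!
# `2 × 2` matrices (helper791, TEAM GEN, S3943)

* `comm_iff` : the commutant of a nonscalar matrix;
* `order_eq` : the order of an irreducible element of `SL₂(F)` depends only on its trace;
* `card_fix_le` : fixed points of semilinear maps;
* `card_U`, `card_inv_le`, `card_semi_le` : counting elements of given trace.
-/

set_option autoImplicit false
set_option linter.unusedSectionVars false

namespace Cfsg.Agent.H791.AS

open Matrix Module

universe u v

variable {F : Type u} [Field F]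

/-- the polynomial `X² - tX + 1` has no root -/
def Irr (t : F) : Prop := ∀ x : F, x ^ 2 - t * x + 1 ≠ 0

theorem trace_two' (s : Matrix (Fin 2) (Fin 2) F) : s.trace = s 0 0 + s 1 1 := by
  rw [Matrix.trace_fin_two]

/-- Cayley–Hamilton -/
theorem sq_eq {s : Matrix (Fin 2) (Fin 2) F} {t : F} (ht : s.trace = t) (hd : s.det = 1) :
    s * s = t • s - 1 := by
  rw [trace_two'] at ht
  rw [Matrix.det_fin_two] at hd
  ext i j
  fin_cases i <;> fin_cases j <;> simp [Matrix.mul_apply, Fin.sum_univ_two]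
  · linear_combination (s 0 0) * ht - hd
  · linear_combination (s 0 1) * ht
  · linear_combination (s 1 0) * ht
  · linear_combination (s 1 1) * ht - hd

/-- the commutant of a nonscalar matrix -/
theorem exists_of_comm {z w : Matrix (Fin 2) (Fin 2) F} (hz : ∀ c : F, z ≠ c • 1) (h : w * z = z * w) :
    ∃ γ δ : F, w = γ • 1 + δ • z := by
  have e00 := congrFun (congrFun h 0) 0
  have e01 := congrFun (congrFun h 0) 1
  have e10 := congrFun (congrFun h 1) 0
  simp only [Matrix.mul_apply, Fin.sum_univ_two] at e00 e01 e10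
  by_cases h1 : z 0 1 = 0
  · by_cases h2 : z 1 0 = 0
    · have h3 : z 0 0 - z 1 1 ≠ 0 := by
        intro h3
        apply hz (z 0 0)
        ext i j
        fin_cases i <;> fin_cases j <;> simp [h1, h2]
        linear_combination -h3
      have h4 : w 0 1 = 0 := by
        have : w 0 1 * (z 0 0 - z 1 1) = 0 := by rw [h1] at e01; linear_combination -e01
        exact (mul_eq_zero.1 this).resolve_right h3
      have h5 : w 1 0 = 0 := by
        have : w 1 0 * (z 0 0 - z 1 1) = 0 := by rw [h2] at e10; linear_combination e10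
        exact (mul_eq_zero.1 this).resolve_right h3
      refine ⟨(w 1 1 * z 0 0 - w 0 0 * z 1 1) / (z 0 0 - z 1 1), (w 0 0 - w 1 1) / (z 0 0 - z 1 1), ?_⟩
      ext i j
      fin_cases i <;> fin_cases j <;> simp [h1, h2, h4, h5]
      · field_simp; ring
      · field_simp; ring
    · refine ⟨w 0 0 - w 1 0 / z 1 0 * z 0 0, w 1 0 / z 1 0, ?_⟩
      rw [h1] at e00 e01
      have h4 : w 0 1 = 0 := by
        have : w 0 1 * z 1 0 = 0 := by linear_combination e00
        exact (mul_eq_zero.1 this).resolve_right h2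
      ext i j
      fin_cases i <;> fin_cases j <;> simp [h1, h4]
      · field_simp
      · field_simp
        linear_combination e10
  · refine ⟨w 0 0 - w 0 1 / z 0 1 * z 0 0, w 0 1 / z 0 1, ?_⟩
    ext i j
    fin_cases i <;> fin_cases j <;> simp
    · field_simp
    · field_simp
      linear_combination -e00
    · field_simp
      linear_combination -e01

theorem comm_of {z w s : Matrix (Fin 2) (Fin 2) F} (hz : ∀ c : F, z ≠ c • 1) (hw : w * z = z * w)
    (hs : s * z = z * s) : w * s = s * w := by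
  obtain ⟨γ, δ, rfl⟩ := exists_of_comm hz hw
  rw [add_mul, mul_add, smul_mul_assoc, smul_mul_assoc, mul_smul_comm, mul_smul_comm, one_mul, mul_one, hs]

theorem det_lin {s : Matrix (Fin 2) (Fin 2) F} {t : F} (ht : s.trace = t) (hd : s.det = 1) (α β : F) :
    (α • (1 : Matrix (Fin 2) (Fin 2) F) + β • s).det = α ^ 2 + α * β * t + β ^ 2 := by
  rw [trace_two'] at ht
  rw [Matrix.det_fin_two] at hd
  rw [Matrix.det_fin_two]
  simp
  linear_combination (α * β) * ht + β ^ 2 * hd

theorem trace_lin {s : Matrix (Fin 2) (Fin 2) F} {t : F} (ht : s.trace = t) (α β : F) :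
    (α • (1 : Matrix (Fin 2) (Fin 2) F) + β • s).trace = 2 * α + β * t := by
  rw [trace_two'] at ht
  rw [trace_two']
  simp
  linear_combination β * ht

theorem norm_ne_zero {t : F} (hi : Irr t) {α β : F} (h : α ^ 2 + α * β * t + β ^ 2 = 0) : α = 0 ∧ β = 0 := by
  by_cases hβ : β = 0
  · rw [hβ] at h
    refine ⟨?_, hβ⟩
    have : α ^ 2 = 0 := by linear_combination h
    exact pow_eq_zero_iff (two_ne_zero) |>.1 this
  · exfalso
    apply hi (-(α / β))
    field_simp
    linear_combination h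

theorem not_scalar {s : Matrix (Fin 2) (Fin 2) F} {t : F} (hi : Irr t) (ht : s.trace = t) (hd : s.det = 1) :
    ∀ c : F, s ≠ c • 1 := by
  rintro c rfl
  have h1 := det_lin (s := c • (1 : Matrix (Fin 2) (Fin 2) F)) ht hd (-c) 1
  have h2 : (-c) • (1 : Matrix (Fin 2) (Fin 2) F) + (1 : F) • (c • (1 : Matrix (Fin 2) (Fin 2) F)) = 0 := by
    rw [one_smul, neg_smul, neg_add_cancel]
  rw [h2, Matrix.det_zero] at h1
  have := (norm_ne_zero hi h1.symm).2
  exact one_ne_zero this

/-- linear independence -/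
theorem lin_inj {s : Matrix (Fin 2) (Fin 2) F} (hs : ∀ c : F, s ≠ c • 1) {α β α' β' : F}
    (h : α • (1 : Matrix (Fin 2) (Fin 2) F) + β • s = α' • 1 + β' • s) : α = α' ∧ β = β' := by
  have hβ : β = β' := by
    by_contra hne
    have h1 : β - β' ≠ 0 := sub_ne_zero.2 hne
    apply hs ((β - β')⁻¹ * (α' - α))
    have h2 : (β - β') • s = (α' - α) • (1 : Matrix (Fin 2) (Fin 2) F) := by
      rw [sub_smul, sub_smul]
      have := h
      rw [← sub_eq_zero] at this ⊢
      rw [← this]
      abel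
    rw [mul_smul, ← h2, smul_smul, inv_mul_cancel₀ h1, one_smul]
  refine ⟨?_, hβ⟩
  rw [hβ] at h
  have h2 := add_right_cancel h
  have h3 := congrFun (congrFun h2 0) 0
  simpa using h3

/-- two elements of `F[s]` with the same trace and determinant one -/
theorem two_roots {t τ : F} (hi : Irr t) {γ δ γ' δ' : F} (h1 : 2 * γ + δ * t = τ) (h2 : γ ^ 2 + γ * δ * t + δ ^ 2 = 1) (h1' : 2 * γ' + δ' * t = τ)
    (h2' : γ' ^ 2 + γ' * δ' * t + δ' ^ 2 = 1) : (γ = γ' ∧ δ = δ') ∨ (γ = τ - γ' ∧ δ = -δ') := by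
  have key : ((γ - γ') ^ 2 + (γ - γ') * (δ - δ') * t + (δ - δ') ^ 2) *
      ((γ + γ' - τ) ^ 2 + (γ + γ' - τ) * (δ + δ') * t + (δ + δ') ^ 2) = 0 := by
    -- the product of the two elements is zero
    have p1 : (γ - γ') * (γ + γ' - τ) - (δ - δ') * (δ + δ') = 0 := by
      have e1 : γ ^ 2 - δ ^ 2 - τ * γ + 1 = 0 := by
        linear_combination γ * h1 - h2
      have e1' : γ' ^ 2 - δ' ^ 2 - τ * γ' + 1 = 0 := by
        linear_combination γ' * h1' - h2'
      linear_combination e1 - e1'
    have p2 : (γ - γ') * (δ + δ') + (δ - δ') * (γ + γ' - τ) + (δ - δ') * (δ + δ') * t = 0 := by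
      have e2 : 2 * γ * δ + δ ^ 2 * t - τ * δ = 0 := by linear_combination δ * h1
      have e2' : 2 * γ' * δ' + δ' ^ 2 * t - τ * δ' = 0 := by linear_combination δ' * h1'
      linear_combination e2 - e2'
    have e := (show ((γ - γ') ^ 2 + (γ - γ') * (δ - δ') * t + (δ - δ') ^ 2) *
      ((γ + γ' - τ) ^ 2 + (γ + γ' - τ) * (δ + δ') * t + (δ + δ') ^ 2) =
      ((γ - γ') * (γ + γ' - τ) - (δ - δ') * (δ + δ')) ^ 2 +
      ((γ - γ') * (γ + γ' - τ) - (δ - δ') * (δ + δ')) *
        ((γ - γ') * (δ + δ') + (δ - δ') * (γ + γ' - τ) + (δ - δ') * (δ + δ') * t) * t +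
      ((γ - γ') * (δ + δ') + (δ - δ') * (γ + γ' - τ) + (δ - δ') * (δ + δ') * t) ^ 2 by ring)
    rw [e, p1, p2]
    ring
  rcases mul_eq_zero.1 key with h | h
  · left
    obtain ⟨h3, h4⟩ := norm_ne_zero hi h
    exact ⟨sub_eq_zero.1 h3, sub_eq_zero.1 h4⟩
  · right
    obtain ⟨h3, h4⟩ := norm_ne_zero hi h
    exact ⟨by linear_combination h3, by linear_combination h4⟩

/-! ### the order -/

/-- `s ^ n = α n + β n s` -/
def seq (t : F) : ℕ → F × F
  | 0 => (1, 0)
  | n + 1 => (-(seq t n).2, (seq t n).1 + (seq t n).2 * t)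

theorem pow_seq {s : Matrix (Fin 2) (Fin 2) F} {t : F} (ht : s.trace = t) (hd : s.det = 1) (n : ℕ) :
    s ^ n = (seq t n).1 • (1 : Matrix (Fin 2) (Fin 2) F) + (seq t n).2 • s := by
  induction n with
  | zero => simp [seq]
  | succ n ih =>
    rw [pow_succ, ih, add_mul, smul_mul_assoc, smul_mul_assoc, one_mul, sq_eq ht hd]
    simp only [seq]
    module

theorem order_eq {s s' : Matrix.SpecialLinearGroup (Fin 2) F} {t : F} (hi : Irr t)
    (ht : (s : Matrix (Fin 2) (Fin 2) F).trace = t) (ht' : (s' : Matrix (Fin 2) (Fin 2) F).trace = t) :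
    orderOf s = orderOf s' := by
  have key : ∀ s : Matrix.SpecialLinearGroup (Fin 2) F, (s : Matrix (Fin 2) (Fin 2) F).trace = t → ∀ n : ℕ,
      s ^ n = 1 ↔ seq t n = (1, 0) := by
    intro s ht n
    have h1 := pow_seq ht s.2 n
    have h2 := not_scalar hi ht s.2
    constructor
    · intro h
      have h3 : (s : Matrix (Fin 2) (Fin 2) F) ^ n = 1 := by
        have e := Matrix.SpecialLinearGroup.coe_pow s n
        rw [h] at e
        exact e.symm
      rw [h3] at h1
      have h4 : (1 : F) • (1 : Matrix (Fin 2) (Fin 2) F) + (0 : F) • (s : Matrix (Fin 2) (Fin 2) F) =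
          (seq t n).1 • (1 : Matrix (Fin 2) (Fin 2) F) + (seq t n).2 • (s : Matrix (Fin 2) (Fin 2) F) := by
        rw [← h1, one_smul, zero_smul, add_zero]
      obtain ⟨h5, h6⟩ := lin_inj h2 h4
      exact Prod.ext h5.symm h6.symm
    · intro h
      apply Subtype.ext
      rw [h, one_smul, zero_smul, add_zero] at h1
      exact (Matrix.SpecialLinearGroup.coe_pow s n).trans h1
  rw [orderOf_eq_orderOf_iff]
  intro n
  rw [key s ht, key s' ht']

/-! ### counting -/

/-- the elements of `SL₂(F)` of trace `t` -/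
def U (t : F) : Set (Matrix.SpecialLinearGroup (Fin 2) F) := {s | (s : Matrix (Fin 2) (Fin 2) F).trace = t}

theorem mem_U {t : F} {s : Matrix.SpecialLinearGroup (Fin 2) F} : s ∈ U t ↔ (s : Matrix (Fin 2) (Fin 2) F).trace = t :=
  Iff.rfl

theorem prod_ne {t x : F} (hi : Irr t) : x * (t - x) - 1 ≠ 0 := by
  intro h
  exact hi x (by linear_combination -h)

theorem entry {t : F} {s : Matrix.SpecialLinearGroup (Fin 2) F} (hs : s ∈ U t) :
    s.1 1 1 = t - s.1 0 0 ∧ s.1 0 1 * s.1 1 0 = s.1 0 0 * (t - s.1 0 0) - 1 := by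
  have h1 : s.1 0 0 + s.1 1 1 = t := by rw [← trace_two']; exact hs
  have h2 := s.2
  rw [Matrix.det_fin_two] at h2
  refine ⟨by linear_combination h1, ?_⟩
  linear_combination (s.1 0 0) * h1 - h2

theorem ext_U {t : F} (hi : Irr t) {s s' : Matrix.SpecialLinearGroup (Fin 2) F} (hs : s ∈ U t) (hs' : s' ∈ U t)
    (h0 : s.1 0 0 = s'.1 0 0) (h1 : s.1 0 1 = s'.1 0 1) : s = s' := by
  obtain ⟨e1, e2⟩ := entry hs
  obtain ⟨e1', e2'⟩ := entry hs'
  have hne : s.1 0 1 ≠ 0 := by
    intro h
    rw [h, zero_mul] at e2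
    exact prod_ne hi e2.symm
  apply Subtype.ext
  ext i j
  fin_cases i <;> fin_cases j
  · exact h0
  · exact h1
  · change s.1 1 0 = s'.1 1 0
    apply mul_left_cancel₀ hne
    rw [e2, h1, e2', h0]
  · change s.1 1 1 = s'.1 1 1
    rw [e1, e1', h0]

variable [Finite F]

theorem card_U {t : F} (hi : Irr t) : Nat.card F * (Nat.card F - 1) ≤ (U t).ncard := by
  classical
  let f : F × Fˣ → Matrix.SpecialLinearGroup (Fin 2) F := fun a =>
    ⟨!![a.1, (a.2 : F); (a.1 * (t - a.1) - 1) * ((a.2⁻¹ : Fˣ) : F), t - a.1], by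
      rw [Matrix.det_fin_two_of]
      have : (a.2 : F) * ((a.2⁻¹ : Fˣ) : F) = 1 := by rw [← Units.val_mul, mul_inv_cancel, Units.val_one]
      linear_combination -(a.1 * (t - a.1) - 1) * this⟩
  have hf : ∀ a, f a ∈ U t := by
    intro a
    rw [mem_U, trace_two']
    change a.1 + (t - a.1) = t
    ring
  have hinj : Function.Injective f := by
    intro a b h
    have h1 : (f a).1 = (f b).1 := congrArg Subtype.val h
    have e0 : a.1 = b.1 := congrFun (congrFun h1 0) 0
    have e1 : (a.2 : F) = (b.2 : F) := congrFun (congrFun h1 0) 1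
    exact Prod.ext e0 (Units.ext e1)
  have h1 : (Set.range f).ncard = Nat.card F * (Nat.card F - 1) := by
    rw [← Set.image_univ, Set.ncard_image_of_injective _ hinj, Set.ncard_univ, Nat.card_prod, Nat.card_units]
  rw [← h1]
  refine Set.ncard_le_ncard ?_ (Set.toFinite _)
  rintro _ ⟨a, rfl⟩
  exact hf a

/-- elements commuting with a nonscalar matrix -/
theorem card_comm_le {t : F} (hi : Irr t) {B : Matrix (Fin 2) (Fin 2) F} (hB : ∀ c : F, B ≠ c • 1) :
    {s ∈ U t | B * s.1 = s.1 * B}.ncard ≤ 2 := by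
  rcases Set.eq_empty_or_nonempty {s ∈ U t | B * s.1 = s.1 * B} with h | ⟨s0, hs0, hs0'⟩
  · rw [h, Set.ncard_empty]; omega
  refine (Set.ncard_le_ncard (t := {s0, s0⁻¹}) ?_ (Set.toFinite _)).trans
    ((Set.ncard_insert_le _ _).trans (by rw [Set.ncard_singleton]))
  rintro s ⟨hs, hs'⟩
  have h1 : s.1 * s0.1 = s0.1 * s.1 := comm_of hB hs'.symm hs0'.symm
  obtain ⟨γ, δ, h2⟩ := exists_of_comm (not_scalar hi hs0 s0.2) h1
  have h3 : 2 * γ + δ * t = t := by
    have h4 : (γ • (1 : Matrix (Fin 2) (Fin 2) F) + δ • s0.1).trace = t := by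
      rw [← h2]; exact hs
    rwa [trace_lin hs0] at h4
  have h5 : γ ^ 2 + γ * δ * t + δ ^ 2 = 1 := by
    rw [← det_lin hs0 s0.2, ← h2]
    exact s.2
  rcases two_roots hi h3 h5 (γ' := 0) (δ' := 1) (by ring) (by ring) with ⟨rfl, rfl⟩ | ⟨rfl, rfl⟩
  · left
    apply Subtype.ext
    rw [h2, zero_smul, zero_add, one_smul]
  · right
    rw [Set.mem_singleton_iff]
    apply Subtype.ext
    rw [h2, Matrix.SpecialLinearGroup.coe_inv, Matrix.adjugate_fin_two]
    obtain ⟨e1, -⟩ := entry hs0
    ext i j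
    fin_cases i <;> fin_cases j <;> simp
    · rw [e1]; ring
    · rw [e1]; ring

/-- the elements inverted by `B` -/
theorem trace_of_inv {t : F} (hi : Irr t) {B : Matrix (Fin 2) (Fin 2) F} {s : Matrix.SpecialLinearGroup (Fin 2) F}
    (hs : s ∈ U t) (h : B * s.1 = (t • 1 - s.1) * B) : B.trace = 0 ∧ (B * s.1).trace = 0 := by
  obtain ⟨e1, e2⟩ := entry hs
  have h1 := not_scalar hi hs s.2
  -- `tr(B) (t - s) = tr(B s)`
  have h2 : B.trace • (t • 1 - s.1) = (B * s.1).trace • (1 : Matrix (Fin 2) (Fin 2) F) := by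
    have e00 := congrFun (congrFun h 0) 0
    have e01 := congrFun (congrFun h 0) 1
    have e10 := congrFun (congrFun h 1) 0
    have e11 := congrFun (congrFun h 1) 1
    simp only [Matrix.mul_apply, Fin.sum_univ_two, Matrix.sub_apply, Matrix.smul_apply, Matrix.one_apply_eq, smul_eq_mul,
      Matrix.one_apply_ne (show (0 : Fin 2) ≠ 1 by decide), Matrix.one_apply_ne (show (1 : Fin 2) ≠ 0 by decide)]
      at e00 e01 e10 e11
    ext i j
    fin_cases i <;> fin_cases j <;>
      simp only [Matrix.trace_fin_two, Matrix.mul_apply, Fin.sum_univ_two, Matrix.sub_apply, Matrix.smul_apply,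
        smul_eq_mul, Matrix.one_apply_eq, Fin.zero_eta, Fin.mk_one, Fin.isValue,
        Matrix.one_apply_ne (show (0 : Fin 2) ≠ 1 by decide), Matrix.one_apply_ne (show (1 : Fin 2) ≠ 0 by decide)]
    · linear_combination -e00 - (B 1 1) * e1
    · linear_combination -e01 + (B 0 1) * e1
    · linear_combination -e10 + (B 1 0) * e1
    · linear_combination -e11 - (B 0 0) * e1
  have h3 : B.trace = 0 := by
    by_contra hne
    apply h1 (t - (B.trace)⁻¹ * (B * s.1).trace)
    have h4 : t • 1 - s.1 = ((B.trace)⁻¹ * (B * s.1).trace) • (1 : Matrix (Fin 2) (Fin 2) F) := by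
      rw [mul_smul, ← h2, smul_smul, inv_mul_cancel₀ hne, one_smul]
    rw [sub_smul, ← h4]
    abel
  refine ⟨h3, ?_⟩
  rw [h3, zero_smul] at h2
  have h5 := congrFun (congrFun h2 0) 0
  simpa using h5.symm

theorem card_inv_le {t : F} (hi : Irr t) {B : Matrix (Fin 2) (Fin 2) F} (hB : ∀ c : F, B ≠ c • 1) (hB0 : B.trace = 0) :
    {s ∈ U t | (B * s.1).trace = 0}.ncard ≤ 2 * Nat.card F := by
  classical
  have := Fintype.ofFinite F
  have hb : B 1 1 = -B 0 0 := by
    rw [trace_two'] at hB0
    linear_combination hB0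
  by_cases hd : B 0 1 = 0 ∧ B 1 0 = 0
  · obtain ⟨h1, h2⟩ := hd
    have h3 : 2 * B 0 0 ≠ 0 := by
      intro h3
      apply hB (B 0 0)
      ext i j
      fin_cases i <;> fin_cases j <;> simp [h1, h2]
      rw [hb]; linear_combination -h3
    have h4 : {s ∈ U t | (B * s.1).trace = 0}.ncard ≤ (Set.univ : Set F).ncard := by
      refine Set.ncard_le_ncard_of_injOn (fun s => s.1 0 1) (fun _ _ => Set.mem_univ _) ?_ (Set.toFinite _)
      rintro s ⟨hs, hs'⟩ s' ⟨hs1, hs1'⟩ h
      refine ext_U hi hs hs1 ?_ h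
      have key : ∀ s : Matrix.SpecialLinearGroup (Fin 2) F, s ∈ U t → (B * s.1).trace = 0 →
          (2 * B 0 0) * s.1 0 0 = B 0 0 * t := by
        intro s hs hs'
        obtain ⟨e1, -⟩ := entry hs
        rw [trace_two'] at hs'
        simp only [Matrix.mul_apply, Fin.sum_univ_two] at hs'
        rw [hb, h1, h2, e1] at hs'
        linear_combination hs'
      apply mul_left_cancel₀ h3
      rw [key s hs hs', key s' hs1 hs1']
    rw [Set.ncard_univ] at h4
    omega
  · have hfin : {s ∈ U t | (B * s.1).trace = 0}.Finite := Set.toFinite _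
    rw [Set.ncard_eq_toFinset_card _ hfin]
    refine (Finset.card_le_mul_card_image (f := fun s : Matrix.SpecialLinearGroup (Fin 2) F => s.1 0 0) _ 2 ?_).trans ?_
    · intro x hx
      -- the polynomial
      set P : Polynomial F := Polynomial.C (B 1 0) * Polynomial.X ^ 2 +
        Polynomial.C (B 0 0 * x - B 0 0 * (t - x)) * Polynomial.X + Polynomial.C (B 0 1 * (x * (t - x) - 1)) with hP
      have hP0 : P ≠ 0 := by
        intro h0
        apply hd
        have c2 := congrArg (fun Q : Polynomial F => Q.coeff 2) h0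
        have c0 := congrArg (fun Q : Polynomial F => Q.coeff 0) h0
        simp [hP, Polynomial.coeff_X, Polynomial.coeff_C, Polynomial.coeff_one] at c2 c0
        exact ⟨c0.resolve_right (prod_ne hi), c2⟩
      refine le_trans ?_ ((Polynomial.card_roots' P).trans (Polynomial.natDegree_quadratic_le))
      refine le_trans ?_ (Multiset.toFinset_card_le P.roots)
      refine Finset.card_le_card_of_injOn (fun s => s.1 0 1) ?_ ?_
      · intro s hs
        simp only [Finset.coe_filter, Set.Finite.mem_toFinset, Set.mem_ofPred_eq] at hs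
        obtain ⟨⟨hs, hs'⟩, hx'⟩ := hs
        obtain ⟨e1, e2⟩ := entry hs
        simp only [Finset.mem_coe, Multiset.mem_toFinset]
        rw [Polynomial.mem_roots hP0, Polynomial.IsRoot, hP]
        simp only [Polynomial.eval_add, Polynomial.eval_mul, Polynomial.eval_C, Polynomial.eval_pow, Polynomial.eval_X]
        rw [trace_two'] at hs'
        simp only [Matrix.mul_apply, Fin.sum_univ_two] at hs'
        rw [hb, e1] at hs'
        rw [hx'] at hs' e2
        linear_combination (s.1 0 1) * hs' - (B 0 1) * e2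
      · intro s hs s' hs1 h
        simp only [Finset.coe_filter, Set.Finite.mem_toFinset, Set.mem_ofPred_eq] at hs hs1
        exact ext_U hi hs.1.1 hs1.1.1 (hs.2.trans hs1.2.symm) h
    · refine Nat.mul_le_mul_left _ ?_
      rw [Nat.card_eq_fintype_card]
      exact Finset.card_le_univ _

end Cfsg.Agent.H791.AS
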