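import Cfsg.Agent.H791.AS.Mat2

/-!
# Semilinear maps and `2 × 2` matrices (helper791, TEAM GEN, S3943)
-/

set_option autoImplicit false
set_option linter.unusedSectionVars false

namespace Cfsg.Agent.H791.AS

open Matrix Module

universe u v

section fix

variable {F : Type u} [Field F] [Finite F] (σ : F ≃+* F)

/-- the number of fixed points of a semilinear map -/
theorem card_fix_le (n : ℕ) : ∀ {V : Type v} [AddCommGroup V] [Module F V] [Finite V], finrank F V = n →
    ∀ φ : V →ₛₗ[(σ : F →+* F)] V, Function.Injective φ →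
      Nat.card {v : V // φ v = v} ≤ Nat.card {c : F // σ c = c} ^ n := by
  have hq : 0 < Nat.card {c : F // σ c = c} := by
    have : Nonempty {c : F // σ c = c} := ⟨⟨0, map_zero σ⟩⟩
    exact Nat.card_pos
  induction n with
  | zero =>
    intro V _ _ _ hn φ _
    have h1 : Subsingleton V := Module.finrank_zero_iff.1 hn
    rw [pow_zero]
    have : Subsingleton {v : V // φ v = v} := ⟨fun a b => Subtype.ext (Subsingleton.elim _ _)⟩
    exact Finite.card_le_one_iff_subsingleton.2 this
  | succ n ih =>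
    intro V _ _ _ hn φ hinj
    classical
    by_cases h0 : ∀ v, φ v = v → v = 0
    · refine le_trans ?_ (Nat.one_le_pow _ _ hq)
      have : Subsingleton {v : V // φ v = v} :=
        ⟨fun a b => Subtype.ext (by rw [h0 a.1 a.2, h0 b.1 b.2])⟩
      exact Finite.card_le_one_iff_subsingleton.2 this
    push Not at h0
    obtain ⟨w, hw, hw0⟩ := h0
    set P : Submodule F V := Submodule.span F {w} with hPdef
    have hP : P ≤ P.comap φ := by
      rw [hPdef, Submodule.span_le]
      intro v hv
      rw [Set.mem_singleton_iff] at hv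
      change φ v ∈ P
      rw [hv, hw]
      exact Submodule.mem_span_singleton_self w
    set φ' := P.mapQ P φ hP with hφ'
    have hmk : ∀ v, φ' (P.mkQ v) = P.mkQ (φ v) := fun v => Submodule.mapQ_apply _ _ _ _
    have hinj' : Function.Injective φ' := by
      intro a b hab
      obtain ⟨a, rfl⟩ := P.mkQ_surjective a
      obtain ⟨b, rfl⟩ := P.mkQ_surjective b
      rw [hmk, hmk, Submodule.mkQ_apply, Submodule.mkQ_apply, Submodule.Quotient.eq] at hab
      rw [Submodule.mkQ_apply, Submodule.mkQ_apply, Submodule.Quotient.eq]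
      obtain ⟨c, hc⟩ := Submodule.mem_span_singleton.1 hab
      refine Submodule.mem_span_singleton.2 ⟨σ.symm c, hinj ?_⟩
      rw [map_sub, ← hc, LinearMap.map_smulₛₗ, hw]
      congr 1
      exact σ.apply_symm_apply c
    have hn' : finrank F (V ⧸ P) = n := by
      have h1 := P.finrank_quotient_add_finrank
      have hfr : finrank F P = 1 := by rw [hPdef]; exact finrank_span_singleton hw0
      rw [hn, hfr] at h1
      omega
    have hfq : Finite (V ⧸ P) := Finite.of_surjective P.mkQ P.mkQ_surjective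
    have h1 := ih hn' φ' hinj'
    -- representatives
    let rep : {u : V ⧸ P // φ' u = u} → V := fun u =>
      if h : ∃ v, φ v = v ∧ P.mkQ v = u.1 then h.choose else 0
    have hrep : ∀ v, (hv : φ v = v) → φ (rep ⟨P.mkQ v, by rw [hmk, hv]⟩) = rep ⟨P.mkQ v, by rw [hmk, hv]⟩ ∧
        P.mkQ (rep ⟨P.mkQ v, by rw [hmk, hv]⟩) = P.mkQ v := by
      intro v hv
      have h : ∃ v', φ v' = v' ∧ P.mkQ v' = P.mkQ v := ⟨v, hv, rfl⟩
      have e : rep ⟨P.mkQ v, by rw [hmk, hv]⟩ = h.choose := by
        simp only [rep]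
        rw [dif_pos h]
      rw [e]
      exact h.choose_spec
    have hco : ∀ v : {v : V // φ v = v}, ∃ c : {c : F // σ c = c},
        v.1 = rep ⟨P.mkQ v.1, by rw [hmk, v.2]⟩ + c.1 • w := by
      rintro ⟨v, hv⟩
      obtain ⟨h2, h3⟩ := hrep v hv
      change ∃ c : {c : F // σ c = c}, v = rep ⟨P.mkQ v, _⟩ + c.1 • w
      generalize rep ⟨P.mkQ v, by rw [hmk, hv]⟩ = r at h2 h3 ⊢
      obtain ⟨c, hc⟩ := Submodule.mem_span_singleton.1 ((Submodule.Quotient.eq P).1 h3)
      have hfix : σ c = c := by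
        have h4 : φ (c • w) = c • w := by rw [hc, map_sub, h2, hv]
        rw [LinearMap.map_smulₛₗ, hw] at h4
        exact smul_left_injective F hw0 h4
      refine ⟨⟨-c, by rw [map_neg, hfix]⟩, ?_⟩
      change v = r + (-c) • w
      rw [neg_smul, hc]
      abel
    choose f hf using hco
    have h2 : Nat.card {v : V // φ v = v} ≤ Nat.card ({u : V ⧸ P // φ' u = u} × {c : F // σ c = c}) := by
      refine Nat.card_le_card_of_injective
        (fun v => ((⟨P.mkQ v.1, by rw [hmk, v.2]⟩ : {u : V ⧸ P // φ' u = u}), f v)) ?_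
      intro a b hab
      have e1 : (⟨P.mkQ a.1, by rw [hmk, a.2]⟩ : {u : V ⧸ P // φ' u = u}) = ⟨P.mkQ b.1, by rw [hmk, b.2]⟩ :=
        congrArg Prod.fst hab
      have e2 : f a = f b := congrArg Prod.snd hab
      apply Subtype.ext
      rw [hf a, hf b, e1, e2]
    rw [Nat.card_prod] at h2
    rw [pow_succ]
    exact h2.trans (Nat.mul_le_mul_right _ h1)

/-- `|F| = q₀ ^ r`, `r` the order of `σ` -/
theorem card_eq_pow : Nat.card F = Nat.card {c : F // σ c = c} ^ orderOf σ := by
  classical
  have hfin : Finite (F ≃+* F) := Finite.of_injective (fun τ : F ≃+* F => (τ : F → F)) DFunLike.coe_injective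
  have := Fintype.ofFinite F
  have : Fintype ↥(Subgroup.zpowers σ) := Fintype.ofFinite _
  have h1 := FixedPoints.finrank_eq_card ↥(Subgroup.zpowers σ) F
  have h2 := Module.natCard_eq_pow_finrank (K := FixedPoints.subfield ↥(Subgroup.zpowers σ) F) (V := F)
  rw [h1, ← Nat.card_eq_fintype_card, Nat.card_zpowers] at h2
  rw [h2]
  congr 1
  refine Nat.card_congr (Equiv.subtypeEquivRight fun c => ?_)
  constructor
  · intro h
    exact h ⟨σ, Subgroup.mem_zpowers σ⟩
  · rintro h ⟨τ, hτ⟩
    change τ c = c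
    obtain ⟨k, rfl⟩ := Subgroup.mem_zpowers_iff.1 hτ
    have h3 : σ ∈ MulAction.stabilizer (F ≃+* F) c := h
    exact (MulAction.stabilizer (F ≃+* F) c).zpow_mem h3 k

end fix

section sl

variable {F : Type u} [Field F] [Finite F]

/-- a traceless matrix -/
def dv (v : Fin 3 → F) : Matrix (Fin 2) (Fin 2) F := !![v 0, v 1; v 2, -v 0]

theorem dv_eq {N : Matrix (Fin 2) (Fin 2) F} (h : N.trace = 0) : dv ![N 0 0, N 0 1, N 1 0] = N := by
  rw [trace_two'] at h
  ext i j
  fin_cases i <;> fin_cases j <;> simp [dv]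
  linear_combination -h

/-- the solutions of `B σ(s) = (γ + δ s) B` -/
theorem card_semi_le {t : F} (hi : Irr t) (σ : F ≃+* F) {B B' : Matrix (Fin 2) (Fin 2) F} (hB : B * B' = 1)
    {γ δ : F} (hδ : δ ≠ 0) :
    {s ∈ U t | B * s.1.map σ = (γ • (1 : Matrix (Fin 2) (Fin 2) F) + δ • s.1) * B}.ncard ≤ Nat.card {c : F // σ c = c} ^ 3 := by
  classical
  have hB' : B' * B = 1 := mul_eq_one_comm.mp hB
  set E := {s ∈ U t | B * s.1.map σ = (γ • (1 : Matrix (Fin 2) (Fin 2) F) + δ • s.1) * B} with hE
  rcases Set.eq_empty_or_nonempty E with h | ⟨s0, hs0⟩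
  · rw [h, Set.ncard_empty]; exact Nat.zero_le _
  -- the semilinear map
  have htr : ∀ v : Fin 3 → F, (δ⁻¹ • (B * (dv v).map σ * B')).trace = 0 := by
    intro v
    rw [Matrix.trace_smul, Matrix.trace_mul_comm, ← Matrix.mul_assoc, hB', Matrix.one_mul, trace_two']
    simp [dv]
  let φ : (Fin 3 → F) →ₛₗ[(σ : F →+* F)] (Fin 3 → F) :=
    { toFun := fun v => ![(δ⁻¹ • (B * (dv v).map σ * B')) 0 0, (δ⁻¹ • (B * (dv v).map σ * B')) 0 1,
        (δ⁻¹ • (B * (dv v).map σ * B')) 1 0]
      map_add' := by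
        intro v w
        have h1 : (dv (v + w)).map σ = (dv v).map σ + (dv w).map σ := by
          ext i j
          fin_cases i <;> fin_cases j <;> simp [dv]
          ring
        rw [h1, mul_add, add_mul, smul_add]
        ext i
        fin_cases i <;> rfl
      map_smul' := by
        intro c v
        have h1 : (dv (c • v)).map σ = σ c • (dv v).map σ := by
          ext i j
          fin_cases i <;> fin_cases j <;> simp [dv]
        rw [h1, mul_smul_comm, smul_mul_assoc, smul_comm]
        ext i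
        fin_cases i <;> rfl }
  have hφ : ∀ v, dv (φ v) = δ⁻¹ • (B * (dv v).map σ * B') := fun v => dv_eq (htr v)
  have hdv : ∀ v w : Fin 3 → F, dv v = dv w → v = w := by
    intro v w h
    ext i
    fin_cases i
    · exact congrFun (congrFun h 0) 0
    · exact congrFun (congrFun h 0) 1
    · exact congrFun (congrFun h 1) 0
  have hinj : Function.Injective φ := by
    rw [injective_iff_map_eq_zero]
    intro v hv
    have h1 := hφ v
    rw [hv] at h1
    have h2 : dv (0 : Fin 3 → F) = 0 := by
      ext i j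
      fin_cases i <;> fin_cases j <;> simp [dv]
    rw [h2] at h1
    have h3 : B * (dv v).map σ * B' = 0 := by
      have := congrArg (fun N => δ • N) h1.symm
      simpa [smul_smul, mul_inv_cancel₀ hδ] using this
    have h4 : (dv v).map σ = 0 := by
      have := congrArg (fun N => B' * N * B) h3
      simp only [mul_zero, zero_mul] at this
      rw [← this]
      calc (dv v).map σ = (B' * B) * (dv v).map σ * (B' * B) := by rw [hB', one_mul, mul_one]
        _ = _ := by simp only [Matrix.mul_assoc]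
    apply hdv
    rw [h2]
    ext i j
    have h5 := congrFun (congrFun h4 i) j
    simp only [Matrix.map_apply, Matrix.zero_apply] at h5
    rw [Matrix.zero_apply]
    exact (map_eq_zero σ).1 h5
  have h1 := card_fix_le σ 3 (V := Fin 3 → F) (by simp) φ hinj
  refine le_trans ?_ h1
  -- the difference
  have hd : ∀ s ∈ E, φ ![(s.1 - s0.1) 0 0, (s.1 - s0.1) 0 1, (s.1 - s0.1) 1 0] =
      ![(s.1 - s0.1) 0 0, (s.1 - s0.1) 0 1, (s.1 - s0.1) 1 0] := by
    intro s hs
    apply hdv
    have htr0 : (s.1 - s0.1).trace = 0 := by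
      rw [Matrix.trace_sub]
      have h2 : s.1.trace = t := hs.1
      have h3 : s0.1.trace = t := hs0.1
      rw [h2, h3, sub_self]
    rw [hφ, dv_eq htr0]
    have h2 : (s.1 - s0.1).map σ = s.1.map σ - s0.1.map σ := by
      ext i j
      simp
    rw [h2, mul_sub, hs.2, hs0.2, ← sub_mul]
    have h3 : γ • (1 : Matrix (Fin 2) (Fin 2) F) + δ • s.1 - (γ • (1 : Matrix (Fin 2) (Fin 2) F) + δ • s0.1) =
        δ • (s.1 - s0.1) := by
      rw [smul_sub]; abel
    rw [h3, smul_mul_assoc, smul_mul_assoc, smul_smul, inv_mul_cancel₀ hδ, one_smul, Matrix.mul_assoc, hB,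
      Matrix.mul_one]
  have hEf : Finite E := Set.toFinite E
  rw [← Nat.card_coe_set_eq]
  refine Nat.card_le_card_of_injective (fun s : E => (⟨_, hd s.1 s.2⟩ : {v : Fin 3 → F // φ v = v})) ?_
  intro a b hab
  have h2 : ![(a.1.1 - s0.1) 0 0, (a.1.1 - s0.1) 0 1, (a.1.1 - s0.1) 1 0] =
      ![(b.1.1 - s0.1) 0 0, (b.1.1 - s0.1) 0 1, (b.1.1 - s0.1) 1 0] := congrArg Subtype.val hab
  have e0 := congrFun h2 0
  have e1 := congrFun h2 1
  apply Subtype.ext
  refine ext_U hi a.2.1 b.2.1 ?_ ?_
  · have h3 := e0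
    simp at h3
    exact h3
  · have h3 := e1
    simp at h3
    exact h3

end sl

end Cfsg.Agent.H791.AS
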